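import Groth.Agent.EtPushStalk.Unit
import Groth.Agent.EtColimH.Local
import Mathlib

/-!
Pulled back sections of abelian etale sheaves along a morphism: equality criterion, local description,
injectivity and stability properties of the surjectivity of global restriction.
-/

set_option autoImplicit false
set_option backward.isDefEq.respectTransparency false
set_option linter.style.haveILetI false
set_option maxHeartbeats 1000000

universe u

open CategoryTheory CategoryTheory.Limits AlgebraicGeometry Opposite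

noncomputable section

namespace Groth.Agent.EtH0Pair

variable {Z X : Scheme.{u}}

/-- the map to the final object -/
abbrev toTopX (U : X.Etale) : U ⟶ EtCoh.top X := MorphismProperty.Over.homMk U.hom (Category.comp_id _)

theorem hom_top_eq {U : X.Etale} (a b : U ⟶ EtCoh.top X) : a = b :=
  MorphismProperty.Over.Hom.ext
    (((Category.comp_id _).symm.trans (Over.w a.hom)).trans ((Category.comp_id _).symm.trans (Over.w b.hom)).symm)

variable (i : Z ⟶ X) (F : EtCoh.Ab X)

/-- the pulled back section -/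
abbrev unitSec (U : X.Etale) : EtCoh.sect F U →+ EtCoh.sect ((EtCoh.pull i).obj F) ((EtCoh.bc i).obj U) :=
  (((EtCoh.pullPushAdj i).unit.app F).hom.app (op U)).hom

theorem unitSec_map {U V : X.Etale} (q : V ⟶ U) (t : EtCoh.sect F U) :
    ((EtCoh.pull i).obj F).obj.map ((EtCoh.bc i).map q).op (unitSec i F U t) =
      unitSec i F V (F.obj.map q.op t) :=
  (NatTrans.naturality_apply ((EtCoh.pullPushAdj i).unit.app F).hom q.op t).symm

theorem unitSec_naturality {G : EtCoh.Ab X} (α : F ⟶ G) (U : X.Etale) (t : EtCoh.sect F U) :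
    ((EtCoh.pull i).map α).hom.app (op ((EtCoh.bc i).obj U)) (unitSec i F U t) =
      unitSec i G U (α.hom.app (op U) t) :=
  (ConcreteCategory.congr_hom (congrArg (fun m => m.hom.app (op U))
    ((EtCoh.pullPushAdj i).unit.naturality α)) t).symm

/-- when two restricted pulled back sections agree -/
theorem unitSec_res_eq_iff {U : X.Etale} (t t' : EtCoh.sect F U) {W : Z.Etale} (φ : W ⟶ (EtCoh.bc i).obj U) :
    ((EtCoh.pull i).obj F).obj.map φ.op (unitSec i F U t) =
        ((EtCoh.pull i).obj F).obj.map φ.op (unitSec i F U t') ↔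
      ∀ w : W.left, pullback.fst U.hom i (φ.left w) ∉ EtShriek.sectSupp F U (t - t') := by
  rw [← sub_eq_zero, ← map_sub, ← map_sub]
  refine (EtSect.map_eq_zero_iff _ _ φ).trans ?_
  constructor
  · intro h w hw
    exact h ⟨w, rfl⟩ ((EtPushStalk.mem_sectSupp_unit_iff i F U (t - t') (φ.left w)).mpr hw)
  · rintro h _ ⟨w, rfl⟩ hw
    exact h w ((EtPushStalk.mem_sectSupp_unit_iff i F U (t - t') (φ.left w)).mp hw)

theorem fst_top (p : ((EtCoh.bc i).obj (EtCoh.top X)).left) :
    pullback.fst (EtCoh.top X).hom i p = i (pullback.snd (EtCoh.top X).hom i p) := by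
  have h : pullback.fst (EtCoh.top X).hom i ≫ (EtCoh.top X).hom = pullback.snd (EtCoh.top X).hom i ≫ i :=
    pullback.condition
  exact (congrArg (fun m : ((EtCoh.bc i).obj (EtCoh.top X)).left ⟶ X => m p)
    ((Category.comp_id _).symm.trans h)).trans (Scheme.Hom.comp_apply _ _ _)

theorem fst_top_mem (p : ((EtCoh.bc i).obj (EtCoh.top X)).left) :
    pullback.fst (EtCoh.top X).hom i p ∈ Set.range i :=
  ⟨_, (fst_top i p).symm⟩

theorem exists_top_point {x : X} (hx : x ∈ Set.range i) :
    ∃ p : ((EtCoh.bc i).obj (EtCoh.top X)).left, pullback.fst (EtCoh.top X).hom i p = x := by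
  obtain ⟨z, hz⟩ := hx
  obtain ⟨p, hp, -⟩ := Scheme.Pullback.exists_preimage_pullback (f := (EtCoh.top X).hom) (g := i) x z hz.symm
  exact ⟨p, hp⟩

/-- a global section vanishing on `Z` vanishes, if only `X` is an open containing `Z` -/
theorem unitSec_top_injective (hV : ∀ V : X.Opens, Set.range i ⊆ V → V = ⊤) :
    Function.Injective (unitSec i F (EtCoh.top X)) := by
  rw [injective_iff_map_eq_zero]
  intro t ht
  have h1 := (EtPushStalk.unit_eq_zero_iff i F (EtCoh.top X) t).mp ht
  let V : X.Opens := ⟨(EtShriek.sectSupp F (EtCoh.top X) t)ᶜ, (EtSect.isClosed_sectSupp F t).isOpen_compl⟩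
  have hVt : V = ⊤ := hV V fun x hx => by
    obtain ⟨p, hp⟩ := exists_top_point i hx
    exact h1 ⟨p, hp⟩
  have h := (EtSect.map_eq_zero_iff F t (𝟙 _)).mpr fun x _ => hVt.ge (trivial : x ∈ (⊤ : X.Opens))
  simpa using h

theorem stalkPullIso_germ {Ω : Type u} [Field Ω] [IsSepClosed Ω] (ξ : Spec (CommRingCat.of Ω) ⟶ Z) (U : X.Etale)
    (v : Over.mk (ξ ≫ i) ⟶ (Scheme.Etale.forget X).obj U) (t : EtCoh.sect F U) :
    (EtStalk.stalkPullIso i ξ).hom.app F ((Scheme.pointSmallEtale (ξ ≫ i)).toPresheafFiber U v F.obj t) =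
      (Scheme.pointSmallEtale ξ).toPresheafFiber ((EtCoh.bc i).obj U) (EtPushStalk.up i ξ v)
        ((EtCoh.pull i).obj F).obj (unitSec i F U t) := by
  rw [EtPushStalk.stalkPullIso_hom_eq i ξ F, ← EtPushStalk.stalkPushHom_germ ξ ((EtCoh.pull i).obj F) U v]
  refine congrArg (EtPushStalk.stalkPushHom i ξ ((EtCoh.pull i).obj F)) ?_
  exact GrothendieckTopology.Point.toPresheafFiber_naturality_apply (Scheme.pointSmallEtale (ξ ≫ i))
    ((EtCoh.pullPushAdj i).unit.app F).hom U v t

/-- sections of the inverse image come locally from sections -/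
theorem exists_unit_near (σ : EtCoh.sect ((EtCoh.pull i).obj F) ((EtCoh.bc i).obj (EtCoh.top X)))
    (p : ((EtCoh.bc i).obj (EtCoh.top X)).left) :
    ∃ (U : X.Etale) (t : EtCoh.sect F U) (q : ((EtCoh.bc i).obj U).left),
      ((EtCoh.bc i).map (toTopX U)).left q = p ∧
      q ∉ EtShriek.sectSupp ((EtCoh.pull i).obj F) ((EtCoh.bc i).obj U)
        (((EtCoh.pull i).obj F).obj.map ((EtCoh.bc i).map (toTopX U)).op σ - unitSec i F U t) := by
  obtain ⟨Ω, _, _, η, -, hη⟩ := EtStalk.covers_all (X := ((EtCoh.bc i).obj (EtCoh.top X)).left) p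
  let ξ : Spec (CommRingCat.of Ω) ⟶ Z := η ≫ pullback.snd (EtCoh.top X).hom i
  let v₀ : Over.mk (ξ ≫ i) ⟶ (Scheme.Etale.forget X).obj (EtCoh.top X) :=
    Over.homMk (ξ ≫ i) (Category.comp_id _)
  have hup : (EtPushStalk.up i ξ v₀).left = η := by
    change pullback.lift v₀.left ξ _ = η
    apply pullback.hom_ext
    · rw [pullback.lift_fst]
      exact (Category.assoc _ _ _).trans
        (congrArg (η ≫ ·) (pullback.condition.symm.trans (Category.comp_id _)))
    · rw [pullback.lift_snd]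
  obtain ⟨z, hz⟩ := ((ConcreteCategory.isIso_iff_bijective ((EtStalk.stalkPullIso i ξ).hom.app F)).mp inferInstance).2
    ((Scheme.pointSmallEtale ξ).toPresheafFiber ((EtCoh.bc i).obj (EtCoh.top X)) (EtPushStalk.up i ξ v₀)
      ((EtCoh.pull i).obj F).obj σ)
  obtain ⟨U, v, t, rfl⟩ := (Scheme.pointSmallEtale (ξ ≫ i)).toPresheafFiber_jointly_surjective (P := F.obj) z
  have hv : v ≫ (Scheme.Etale.forget X).map (toTopX U) = v₀ := by
    refine Over.OverMorphism.ext ?_
    change v.left ≫ U.hom = ξ ≫ i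
    exact Over.w v
  refine ⟨U, t, (EtPushStalk.up i ξ v).left (default : Spec (CommRingCat.of Ω)), ?_, ?_⟩
  · rw [← hη, ← hup, ← hv, ← EtPushStalk.up_map i ξ (toTopX U) v]
    exact (Scheme.Hom.comp_apply _ _ _).symm
  · refine (EtPushStalk.germ_eq_zero_iff _ ξ _ (EtPushStalk.up i ξ v) _).mp ?_
    rw [map_sub, sub_eq_zero]
    refine Eq.trans ?_ (hz.symm.trans (stalkPullIso_germ i F ξ U v t))
    refine (ConcreteCategory.congr_hom ((Scheme.pointSmallEtale ξ).toPresheafFiber_w
      ((EtCoh.bc i).map (toTopX U)) (EtPushStalk.up i ξ v) ((EtCoh.pull i).obj F).obj) σ).trans ?_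
    rw [← hv, ← EtPushStalk.up_map i ξ (toTopX U) v]
    rfl

/-- two maps to base changes factor through the base change of the product -/
theorem exists_bc_product {U V : X.Etale} {W : Z.Etale} (φ : W ⟶ (EtCoh.bc i).obj U)
    (ψ : W ⟶ (EtCoh.bc i).obj V) :
    ∃ (P : X.Etale) (a : P ⟶ U) (b : P ⟶ V) (χ : W ⟶ (EtCoh.bc i).obj P),
      χ ≫ (EtCoh.bc i).map a = φ ∧ χ ≫ (EtCoh.bc i).map b = ψ := by
  have := U.prop
  have := V.prop
  let P : X.Etale := Scheme.Etale.mk (pullback.fst U.hom V.hom ≫ U.hom)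
  let a : P ⟶ U := MorphismProperty.Over.homMk (pullback.fst U.hom V.hom) rfl
  let b : P ⟶ V := MorphismProperty.Over.homMk (pullback.snd U.hom V.hom) pullback.condition.symm
  have hφ : φ.left ≫ pullback.snd U.hom i = W.hom := Over.w φ.hom
  have hψ : ψ.left ≫ pullback.snd V.hom i = W.hom := Over.w ψ.hom
  have h1 : (φ.left ≫ pullback.fst U.hom i) ≫ U.hom = (ψ.left ≫ pullback.fst V.hom i) ≫ V.hom := by
    rw [Category.assoc, Category.assoc, pullback.condition, pullback.condition, ← Category.assoc, ← Category.assoc,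
      hφ, hψ]
  let f : W.left ⟶ P.left := pullback.lift (φ.left ≫ pullback.fst U.hom i) (ψ.left ≫ pullback.fst V.hom i) h1
  have h2 : f ≫ P.hom = W.hom ≫ i := by
    change f ≫ pullback.fst U.hom V.hom ≫ U.hom = W.hom ≫ i
    rw [pullback.lift_fst_assoc]
    exact (Category.assoc _ _ _).trans ((congrArg (φ.left ≫ ·) pullback.condition).trans
      ((Category.assoc _ _ _).symm.trans (congrArg (· ≫ i) hφ)))
  let χ : W ⟶ (EtCoh.bc i).obj P := MorphismProperty.Over.homMk (pullback.lift f W.hom h2) (pullback.lift_snd _ _ _)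
  have key : ∀ {U' : X.Etale} (c : P ⟶ U') (θ : W ⟶ (EtCoh.bc i).obj U'), f ≫ c.left = θ.left ≫ pullback.fst U'.hom i →
      χ ≫ (EtCoh.bc i).map c = θ := fun {U'} c θ hc => by
    refine MorphismProperty.Over.Hom.ext ?_
    change pullback.lift f W.hom h2 ≫ ((EtCoh.bc i).map c).left = θ.left
    apply pullback.hom_ext
    · erw [Category.assoc, (EtCoh.isPullback_bc_map i c).w, pullback.lift_fst_assoc]
      exact hc
    · have e1 : ((EtCoh.bc i).map c).left ≫ pullback.snd U'.hom i = pullback.snd P.hom i := by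
        dsimp [EtCoh.bc]
        exact pullback.lift_snd _ _ _
      erw [Category.assoc, e1, pullback.lift_snd]
      exact (Over.w θ.hom).symm
  exact ⟨P, a, b, χ, key a φ (pullback.lift_fst _ _ _), key b ψ (pullback.lift_snd _ _ _)⟩

/-- restriction of global sections to `Z` is surjective -/
def SurjTop : Prop := Function.Surjective (unitSec i F (EtCoh.top X))

variable {i F}

theorem SurjTop.of_iso {G : EtCoh.Ab X} (e : F ≅ G) (h : SurjTop i F) : SurjTop i G := fun σ => by
  obtain ⟨t, ht⟩ := h (((EtCoh.pull i).map e.inv).hom.app _ σ)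
  refine ⟨e.hom.hom.app (op (EtCoh.top X)) t, ?_⟩
  rw [← unitSec_naturality, ht, ← ConcreteCategory.comp_apply, ← NatTrans.comp_app,
    ← ObjectProperty.FullSubcategory.comp_hom, ← Functor.map_comp, Iso.inv_hom_id, CategoryTheory.Functor.map_id]
  rfl

theorem SurjTop.biproduct {n : ℕ} {P : Fin n → EtCoh.Ab X} (h : ∀ k, SurjTop i (P k)) : SurjTop i (⨁ P) := by
  classical
  intro σ
  choose t ht using fun k => h k (((EtCoh.pull i).map (biproduct.π P k)).hom.app _ σ)
  refine ⟨∑ k, (biproduct.ι P k).hom.app (op (EtCoh.top X)) (t k), ?_⟩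
  haveI : (EtCoh.pull i).Additive := (EtCoh.pullPushAdj i).left_adjoint_additive
  let ev := sheafToPresheaf Z.smallEtaleTopology AddCommGrpCat.{u + 1} ⋙
    (evaluation Z.Etaleᵒᵖ AddCommGrpCat.{u + 1}).obj (op ((EtCoh.bc i).obj (EtCoh.top X)))
  have e : (∑ k, (EtCoh.pull i).map (biproduct.π P k) ≫ (EtCoh.pull i).map (biproduct.ι P k)) =
      𝟙 ((EtCoh.pull i).obj (⨁ P)) := by
    simp only [← Functor.map_comp]
    rw [← Functor.map_sum, biproduct.total, CategoryTheory.Functor.map_id]
  rw [map_sum]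
  simp only [← unitSec_naturality, ht]
  let E : ((EtCoh.pull i).obj (⨁ P) ⟶ (EtCoh.pull i).obj (⨁ P)) →+
      EtCoh.sect ((EtCoh.pull i).obj (⨁ P)) ((EtCoh.bc i).obj (EtCoh.top X)) :=
    AddMonoidHom.mk' (fun f => (ev.map f) σ) fun a b => by simp [ev]
  have e2 := congrArg E e
  rw [map_sum] at e2
  refine Eq.trans ?_ (e2.trans ?_)
  · refine Finset.sum_congr rfl fun k _ => ?_
    change _ = ((EtCoh.pull i).map (biproduct.π P k) ≫ (EtCoh.pull i).map (biproduct.ι P k)).hom.app _ σ
    rfl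
  · rfl

theorem SurjTop.of_mono {G : EtCoh.Ab X} (f : F ⟶ G) [Mono f] (hV : ∀ V : X.Opens, Set.range i ⊆ V → V = ⊤)
    [PreservesFiniteLimits (EtCoh.pull i)] (h : SurjTop i G) : SurjTop i F := fun σ => by
  obtain ⟨t, ht⟩ := h (((EtCoh.pull i).map f).hom.app _ σ)
  let S : ShortComplex (EtCoh.Ab X) := ShortComplex.mk f (cokernel.π f) (cokernel.condition f)
  haveI : Mono S.f := ‹Mono f›
  have hex : S.Exact := S.exact_of_g_is_cokernel (cokernelIsCokernel f)
  have h0 : (cokernel.π f).hom.app (op (EtCoh.top X)) t = 0 := by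
    refine (injective_iff_map_eq_zero _).mp (unitSec_top_injective i (cokernel f) hV) _ ?_
    rw [← unitSec_naturality, ht, ← ConcreteCategory.comp_apply, ← NatTrans.comp_app,
      ← ObjectProperty.FullSubcategory.comp_hom, ← Functor.map_comp, cokernel.condition]
    haveI : (EtCoh.pull i).Additive := (EtCoh.pullPushAdj i).left_adjoint_additive
    rw [Functor.map_zero]
    rfl
  have hk := hex.map_of_mono_of_preservesKernel
    (sheafToPresheaf X.smallEtaleTopology AddCommGrpCat.{u + 1} ⋙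
      (evaluation X.Etaleᵒᵖ AddCommGrpCat.{u + 1}).obj (op (EtCoh.top X))) inferInstance inferInstance
  obtain ⟨s, hs⟩ := (ShortComplex.ab_exact_iff _).1 hk t h0
  refine ⟨s, ?_⟩
  haveI : Mono ((EtCoh.pull i).map f) := inferInstance
  haveI : Mono ((sheafToPresheaf Z.smallEtaleTopology AddCommGrpCat.{u + 1} ⋙
      (evaluation Z.Etaleᵒᵖ AddCommGrpCat.{u + 1}).obj (op ((EtCoh.bc i).obj (EtCoh.top X)))).map
        ((EtCoh.pull i).map f)) := inferInstance
  refine (AddCommGrpCat.mono_iff_injective _).1 this ?_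
  exact (unitSec_naturality i F f _ s).trans ((congrArg (unitSec i G _) hs).trans ht)

theorem SurjTop.of_isColimit {J : Type (u + 1)} [SmallCategory J] [IsFiltered J] {D : J ⥤ EtCoh.Ab X}
    {c : Cocone D} (hc : IsColimit c) [CompactSpace ((EtCoh.bc i).obj (EtCoh.top X)).left]
    [QuasiSeparatedSpace ((EtCoh.bc i).obj (EtCoh.top X)).left] (h : ∀ j, SurjTop i (D.obj j)) :
    SurjTop i c.pt := fun σ => by
  haveI : PreservesColimitsOfSize.{u + 1, u + 1} (EtCoh.pull i) :=
    (EtCoh.pullPushAdj i).leftAdjoint_preservesColimits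
  obtain ⟨j, s, hs⟩ := EtColimH.exists_rep (isColimitOfPreserves (EtCoh.pull i) hc) σ
  obtain ⟨t, ht⟩ := h j s
  refine ⟨(c.ι.app j).hom.app (op (EtCoh.top X)) t, ?_⟩
  exact ((unitSec_naturality i (D.obj j) (c.ι.app j) _ t).symm.trans (congrArg _ ht)).trans hs

end Groth.Agent.EtH0Pair
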