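import Groth.Agent.EtH0Pair.Const
import Groth.Agent.EtIntegral.BaseChange

/-!
Restriction of global sections of a finite direct image to a closed subscheme.
-/

set_option autoImplicit false
set_option backward.isDefEq.respectTransparency false
set_option linter.style.haveILetI false
set_option maxHeartbeats 1000000

universe u

open CategoryTheory CategoryTheory.Limits AlgebraicGeometry Opposite

noncomputable section

namespace Groth.Agent.EtH0Pair

variable {Z X : Scheme.{u}}

theorem surjective_unitSec_of_iso (i : Z ⟶ X) (F : EtCoh.Ab X) {U V : X.Etale} (e : U ≅ V)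
    (h : Function.Surjective (unitSec i F V)) : Function.Surjective (unitSec i F U) := fun s => by
  obtain ⟨t, ht⟩ := h (((EtCoh.pull i).obj F).obj.map ((EtCoh.bc i).map e.inv).op s)
  refine ⟨F.obj.map e.hom.op t, ?_⟩
  rw [← unitSec_map, ht, ← ConcreteCategory.comp_apply, ← Functor.map_comp, ← op_comp,
    ← CategoryTheory.Functor.map_comp, Iso.hom_inv_id, CategoryTheory.Functor.map_id, op_id,
    CategoryTheory.Functor.map_id]
  rfl

/-- the base change of the final object is final -/
theorem exists_iso_top {Y : Scheme.{u}} (π : Y ⟶ X) :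
    Nonempty ((EtCoh.bc π).obj (EtCoh.top X) ≅ EtCoh.top Y) := by
  haveI : IsIso (pullback.snd (EtCoh.top X).hom π) :=
    inferInstanceAs (IsIso (pullback.snd (𝟙 X) π))
  let s : Y ⟶ ((EtCoh.bc π).obj (EtCoh.top X)).left := pullback.lift π (𝟙 Y) (by
    change π ≫ 𝟙 X = 𝟙 Y ≫ π
    rw [Category.comp_id, Category.id_comp])
  refine ⟨⟨toTopX _, MorphismProperty.Over.homMk s (pullback.lift_snd _ _ _), ?_, hom_top_eq _ _⟩⟩
  refine MorphismProperty.Over.Hom.ext ?_
  change pullback.snd (EtCoh.top X).hom π ≫ s = 𝟙 _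
  rw [← cancel_mono (pullback.snd (EtCoh.top X).hom π), Category.assoc, Category.id_comp]
  exact (congrArg (pullback.snd (EtCoh.top X).hom π ≫ ·) (pullback.lift_snd _ _ _)).trans (Category.comp_id _)

theorem surjTop_push_finite (i : Z ⟶ X) {Y : Scheme.{u}} (π : Y ⟶ X) [IsFinite π] (C : EtCoh.Ab Y)
    (h : SurjTop (pullback.snd i π) C) : SurjTop i ((EtCoh.push π).obj C) := by
  have hsq : IsPullback (pullback.snd i π) (pullback.fst i π) π i := (IsPullback.of_hasPullback i π).flip
  haveI : IsFinite (pullback.fst i π) := MorphismProperty.pullback_fst _ _ inferInstance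
  haveI hβ := EtIntegral.isIso_baseChange0 π i (pullback.fst i π) (pullback.snd i π) hsq C
  intro σ
  let β := EtCoh.baseChange0 π i (pullback.fst i π) (pullback.snd i π) hsq.w C
  let c := (EtCoh.pushComp π (pullback.snd i π)).hom.app ((EtCoh.pull (pullback.snd i π)).obj C) ≫
    (EtCoh.pushCongr hsq.w).hom.app _ ≫ (EtCoh.pushComp i (pullback.fst i π)).inv.app _
  have e : (EtCoh.pullPushAdj i).unit.app ((EtCoh.push π).obj C) ≫ (EtCoh.push i).map β =
      (EtCoh.push π).map ((EtCoh.pullPushAdj (pullback.snd i π)).unit.app C) ≫ c :=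
    ((EtCoh.pullPushAdj i).homEquiv_unit _ _ _).symm.trans (((EtCoh.pullPushAdj i).homEquiv _ _).apply_symm_apply _)
  haveI : IsIso c.hom := inferInstanceAs (IsIso ((sheafToPresheaf _ _).map c))
  haveI : IsIso β.hom := inferInstanceAs (IsIso ((sheafToPresheaf _ _).map β))
  have hbc : Function.Bijective (c.hom.app (op (EtCoh.top X))) :=
    (ConcreteCategory.isIso_iff_bijective _).1 inferInstance
  have hbβ : Function.Bijective (β.hom.app (op ((EtCoh.bc i).obj (EtCoh.top X)))) :=
    (ConcreteCategory.isIso_iff_bijective _).1 inferInstance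
  obtain ⟨y, hy⟩ := hbc.2 (β.hom.app (op ((EtCoh.bc i).obj (EtCoh.top X))) σ)
  obtain ⟨eT⟩ := exists_iso_top π
  obtain ⟨t, ht⟩ := surjective_unitSec_of_iso (pullback.snd i π) C eT h y
  refine ⟨t, hbβ.1 ?_⟩
  refine Eq.trans ?_ hy
  rw [← ht]
  exact ConcreteCategory.congr_hom (congrArg (fun m => m.hom.app (op (EtCoh.top X))) e) t

end Groth.Agent.EtH0Pair
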