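import Groth.Agent.EtH0Pair.Const

/-!
The sheaf of free modules over the field with two elements on an abelian sheaf, as a sheaf of sets.
-/

set_option autoImplicit false
set_option backward.isDefEq.respectTransparency false
set_option linter.style.haveILetI false
set_option maxHeartbeats 1000000

universe u

open CategoryTheory CategoryTheory.Limits AlgebraicGeometry Opposite

noncomputable section

namespace Groth.Agent.EtH0Pair

variable {X : Scheme.{u}} (F : EtCoh.Ab X)

/-- the presheaf of free modules over the field with two elements -/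
def free2Pre : X.Etaleᵒᵖ ⥤ AddCommGrpCat.{u + 1} where
  obj U := AddCommGrpCat.of ((F.obj.obj U : Type (u + 1)) →₀ ZMod 2)
  map f := AddCommGrpCat.ofHom (Finsupp.mapDomain.addMonoidHom (F.obj.map f))
  map_id U := by
    ext : 1
    refine Finsupp.addHom_ext fun a b => ?_
    simp
  map_comp f g := by
    ext : 1
    refine Finsupp.addHom_ext fun a b => ?_
    simp

/-- the associated sheaf -/
def free2 : EtCoh.Ab X := (presheafToSheaf X.smallEtaleTopology AddCommGrpCat.{u + 1}).obj (free2Pre F)

/-- the basis section of a section -/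
def basisSec (U : X.Etale) (t : EtCoh.sect F U) : EtCoh.sect (free2 F) U :=
  (toSheafify X.smallEtaleTopology (free2Pre F)).app (op U) (Finsupp.single t 1)

theorem basisSec_map {U V : X.Etale} (q : V ⟶ U) (t : EtCoh.sect F U) :
    (free2 F).obj.map q.op (basisSec F U t) = basisSec F V (F.obj.map q.op t) := by
  refine (NatTrans.naturality_apply (toSheafify X.smallEtaleTopology (free2Pre F)) q.op (Finsupp.single t 1)).symm.trans ?_
  exact congrArg _ (Finsupp.mapDomain_single)

theorem basisSec_injective (U : X.Etale) : Function.Injective (basisSec F U) := fun t t' h => by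
  refine eq_of_notMem F fun x => ?_
  obtain ⟨W, f, hf, hx⟩ := EtColimH.exists_of_mem
    (Presheaf.equalizerSieve_mem X.smallEtaleTopology (toSheafify X.smallEtaleTopology (free2Pre F))
      (X := op U) (Finsupp.single t 1) (Finsupp.single t' 1) h) x
  refine (EtSect.mem_iff F _ _).mpr ⟨W, f, hx, ?_⟩
  have h1 : Finsupp.single (F.obj.map f.op t) (1 : ZMod 2) = Finsupp.single (F.obj.map f.op t') 1 :=
    Finsupp.mapDomain_single.symm.trans (Eq.trans hf Finsupp.mapDomain_single)
  rw [map_sub, sub_eq_zero]
  exact Finsupp.single_left_injective one_ne_zero h1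

theorem notMem_basisSec {U : X.Etale} {t t' : EtCoh.sect F U} {x : U.left}
    (h : x ∉ EtShriek.sectSupp F U (t - t')) :
    x ∉ EtShriek.sectSupp (free2 F) U (basisSec F U t - basisSec F U t') := by
  obtain ⟨W, g, hw, h0⟩ := (EtSect.mem_iff _ _ _).mp h
  rw [map_sub, sub_eq_zero] at h0
  exact (EtSect.mem_iff _ _ _).mpr ⟨W, g, hw, by rw [map_sub, basisSec_map, basisSec_map, h0, sub_self]⟩

theorem notMem_of_basisSec {U : X.Etale} {t t' : EtCoh.sect F U} {x : U.left}
    (h : x ∉ EtShriek.sectSupp (free2 F) U (basisSec F U t - basisSec F U t')) :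
    x ∉ EtShriek.sectSupp F U (t - t') := by
  obtain ⟨W, g, hw, h0⟩ := (EtSect.mem_iff _ _ _).mp h
  rw [map_sub, sub_eq_zero, basisSec_map, basisSec_map] at h0
  exact (EtSect.mem_iff _ _ _).mpr ⟨W, g, hw, by rw [map_sub, basisSec_injective F W h0, sub_self]⟩

theorem isTorsion_free2 : EtCoh.IsTorsion (free2 F) := by
  intro U s x
  obtain ⟨W, g, ⟨a, ha⟩, ⟨w, hw⟩⟩ := EtColimH.exists_of_mem
    (Presheaf.imageSieve_mem X.smallEtaleTopology (toSheafify X.smallEtaleTopology (free2Pre F)) (U := op U) s) x
  refine ⟨W, g, ⟨w, hw⟩, isOfFinAddOrder_iff_nsmul_eq_zero.mpr ⟨2, by norm_num, ?_⟩⟩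
  rw [show (free2 F).obj.map g.op s = _ from ha.symm]
  refine (map_nsmul ((toSheafify X.smallEtaleTopology (free2Pre F)).app (op W)).hom 2 a).symm.trans ?_
  let a' : (F.obj.obj (op W) : Type (u + 1)) →₀ ZMod 2 := a
  have h2 : (2 : ℕ) • a' = 0 :=
    Finsupp.ext fun y => (two_nsmul (a' y)).trans (CharTwo.add_self_eq_zero (a' y))
  exact (congrArg _ h2).trans (map_zero _)

end Groth.Agent.EtH0Pair
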