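import Groth.Agent.TopPull.Stalk
import Mathlib.Topology.Sheaves.LocalPredicate
import Mathlib.Topology.LocallyConstant.Basic
import Mathlib.Topology.Order

/-!
Consequences, for continuous maps, of bijectivity of restriction of sections of sheaves of sets to a subspace.
-/

set_option autoImplicit false
set_option backward.isDefEq.respectTransparency false
set_option linter.style.haveILetI false

universe u

open CategoryTheory CategoryTheory.Limits TopologicalSpace Opposite TopCat

noncomputable section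

namespace Groth.Agent.EtH0Pair

variable {X : TopCat.{u}} (Z : Set X)

/-- restriction to `Z` is bijective on global sections of sheaves of sets -/
def SectBij : Prop :=
  ∀ F : TopCat.Sheaf (Type u) X, Function.Bijective
    (((TopCat.Sheaf.pullbackPushforwardAdjunction (Type u)
      (TopCat.ofHom ⟨(Subtype.val : Z → X), continuous_subtype_val⟩)).unit.app F).hom.app (op ⊤))

variable {Z}

theorem SectBij.eq_of_eqOn (h : SectBij Z) {T : TopCat.{u}} (f g : C(X, T)) (V : Opens X)
    (hV : Z ⊆ V) (hfg : ∀ x ∈ V, f x = g x) : f = g := by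
  let i : TopCat.of Z ⟶ X := TopCat.ofHom ⟨(Subtype.val : Z → X), continuous_subtype_val⟩
  let F := TopCat.sheafToTop (X := X) T
  let toSec : C(X, T) → F.presheaf.obj (op ⊤) := fun k => TopCat.ofHom ⟨fun x => k x.1, k.continuous.comp continuous_subtype_val⟩
  have hs : toSec f = toSec g := by
    refine (h F).1 (TopCat.Presheaf.section_ext ((TopCat.Sheaf.pullback (Type u) i).obj F) _ _ _ fun z _ => ?_)
    obtain ⟨e, -, hgerm⟩ := TopPull.exists_stalk_bijective i F z
    refine (hgerm ⊤ trivial (toSec f)).trans (Eq.trans (congrArg e ?_) (hgerm ⊤ trivial (toSec g)).symm)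
    refine F.presheaf.germ_ext V (hV z.2) (homOfLE le_top) (homOfLE le_top) ?_
    apply ConcreteCategory.hom_ext
    intro x
    exact hfg x.1 x.2
  ext x
  exact ConcreteCategory.congr_hom hs ⟨x, trivial⟩

theorem SectBij.eq_empty_of_disjoint (h : SectBij Z) {C : Set X} (hC : IsClosed C) (hd : Disjoint C Z) : C = ∅ := by
  let f : C(X, TopCat.of (ULift.{u} Prop)) := ⟨fun _ => ⟨True⟩, continuous_const⟩
  let g : C(X, TopCat.of (ULift.{u} Prop)) :=
    ⟨fun x => ⟨x ∉ C⟩, continuous_uliftUp.comp (continuous_Prop.2 hC.isOpen_compl)⟩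
  have e := h.eq_of_eqOn f g ⟨Cᶜ, hC.isOpen_compl⟩ (fun z hz hzC => Set.disjoint_left.mp hd hzC hz)
    fun x hx => congrArg ULift.up (propext ⟨fun _ => hx, fun _ => trivial⟩)
  refine Set.eq_empty_of_forall_notMem fun x hx => ?_
  have e2 : (⟨True⟩ : ULift.{u} Prop) = ⟨x ∉ C⟩ := ContinuousMap.congr_fun e x
  exact (congrArg ULift.down e2).mp trivial hx

theorem SectBij.eq_univ_of_isOpen (h : SectBij Z) {V : Set X} (hV : IsOpen V) (hZ : Z ⊆ V) : V = Set.univ :=
  Set.compl_empty_iff.mp (h.eq_empty_of_disjoint hV.isClosed_compl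
    (Set.disjoint_left.mpr fun _ hx hz => hx (hZ hz)))

theorem SectBij.exists_extension (h : SectBij Z) {M : Type u} (f : LocallyConstant Z M) :
    ∃ g : LocallyConstant X M, ∀ z : Z, g z.1 = f z := by
  let i : TopCat.of Z ⟶ X := TopCat.ofHom ⟨(Subtype.val : Z → X), continuous_subtype_val⟩
  letI : TopologicalSpace M := ⊥
  haveI : DiscreteTopology M := ⟨rfl⟩
  let T : TopCat.{u} := TopCat.of M
  let F := TopCat.sheafToTop (X := X) T
  let G := (TopCat.Sheaf.pullback (Type u) i).obj F
  let η := (TopCat.Sheaf.pullbackPushforwardAdjunction (Type u) i).unit.app F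
  let c : M → F.presheaf.obj (op ⊤) := fun m => TopCat.ofHom ⟨fun _ => m, continuous_const⟩
  let N : M → Opens (TopCat.of Z) := fun m => ⟨f ⁻¹' {m}, f.isLocallyConstant.isOpen_fiber m⟩
  let sec : ∀ m, G.presheaf.obj (op (N m)) := fun m =>
    G.presheaf.map (homOfLE (show N m ≤ (Opens.map i).obj ⊤ from fun _ _ => trivial)).op (η.hom.app (op ⊤) (c m))
  obtain ⟨σ, hσ, -⟩ := G.existsUnique_gluing' N ((Opens.map i).obj ⊤) (fun m => homOfLE fun _ _ => trivial)
    (fun z _ => Opens.mem_iSup.mpr ⟨f z, rfl⟩) sec fun m m' => by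
    refine TopCat.Presheaf.section_ext G _ _ _ fun z hz => ?_
    have e : m = m' := (show f z = m from hz.1).symm.trans (show f z = m' from hz.2)
    subst e
    rfl
  obtain ⟨t, ht⟩ := (h F).2 σ
  let t' : (Opens.toTopCat X).obj ⊤ ⟶ T := t
  let g : X → M := fun x => t'.hom ⟨x, trivial⟩
  have hg : Continuous g := t'.hom.continuous.comp (Continuous.subtype_mk continuous_id _)
  refine ⟨⟨g, (IsLocallyConstant.iff_continuous g).mpr hg⟩, fun z => ?_⟩
  obtain ⟨e, he, hgerm⟩ := TopPull.exists_stalk_bijective i F z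
  have h1 : G.presheaf.germ (N (f z)) z (show z ∈ N (f z) from rfl)
      (G.presheaf.map (homOfLE (show N (f z) ≤ (Opens.map i).obj ⊤ from fun _ _ => trivial)).op σ) =
      G.presheaf.germ (N (f z)) z (show z ∈ N (f z) from rfl) (sec (f z)) := congrArg _ (hσ (f z))
  rw [G.presheaf.germ_res_apply, G.presheaf.germ_res_apply, ← ht] at h1
  have h2 : F.presheaf.germ ⊤ (i z) trivial t = F.presheaf.germ ⊤ (i z) trivial (c (f z)) :=
    he.1 ((hgerm ⊤ trivial t).symm.trans (h1.trans (hgerm ⊤ trivial (c (f z)))))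
  obtain ⟨W, hzW, i₁, i₂, hW⟩ := F.presheaf.germ_eq (i z) (U := ⊤) (V := ⊤) trivial trivial t (c (f z)) h2
  exact ConcreteCategory.congr_hom hW ⟨i z, hzW⟩

end Groth.Agent.EtH0Pair
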