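import Groth.Agent.EtH0Pair.Finite
import Groth.Agent.EtH0Pair.Free
import Groth.Agent.EtH0Pair.Top
import Groth.Agent.EtPullExact.Basic
import Groth.Agent.S0134
import Groth.Agent.S0144

/-!
Gabber criterion for restriction of global sections of etale sheaves to a closed subscheme.
-/

set_option autoImplicit false
set_option backward.isDefEq.respectTransparency false
set_option linter.style.haveILetI false
set_option maxHeartbeats 1000000

universe u

open CategoryTheory CategoryTheory.Limits AlgebraicGeometry Opposite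

noncomputable section

namespace Groth.Agent.EtH0Pair

variable {Z X : Scheme.{u}} (i : Z ⟶ X) [IsClosedImmersion i]

/-- locally constant maps on the preimage of `Z` extend, on every finite scheme over `X` -/
def ExtProp : Prop :=
  ∀ (Y : Scheme.{u}) (π : Y ⟶ X), IsFinite π → ∀ (N : Type u) (f : LocallyConstant (Set.range (pullback.snd i π)) N),
    ∃ g : LocallyConstant Y N, ∀ z : Set.range (pullback.snd i π), g z.1 = f z

variable [CompactSpace X] [QuasiSeparatedSpace X]

theorem surjTop_of_isTorsion (hV : ∀ V : X.Opens, Set.range i ⊆ V → V = ⊤) (hext : ExtProp i)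
    (F : EtCoh.Ab X) (hF : EtCoh.IsTorsion F) : SurjTop i F := by
  obtain ⟨J, _, _, D, c, hc, hD, ⟨e⟩⟩ := Groth.Agent.S0134.result X F hF
  let fst : ((EtCoh.bc i).obj (EtCoh.top X)).left ⟶ X := pullback.fst (EtCoh.top X).hom i
  haveI : IsClosedImmersion fst := MorphismProperty.pullback_fst _ _ inferInstance
  haveI : CompactSpace ((EtCoh.bc i).obj (EtCoh.top X)).left := QuasiCompact.compactSpace_of_compactSpace fst
  haveI : QuasiSeparatedSpace ((EtCoh.bc i).obj (EtCoh.top X)).left := quasiSeparatedSpace_of_quasiSeparated fst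
  refine (SurjTop.of_isColimit hc fun j => ?_).of_iso e
  obtain ⟨n, Y, f, hf, -, M, _, _, h⟩ := Groth.Agent.S0144.result X (D.obj j) (hD j)
  obtain ⟨ι, hι⟩ := h
  haveI := EtPullExact.pull_preservesFiniteLimits i
  haveI : ∀ k, IsFinite (f k) := hf
  refine SurjTop.of_mono ι hV (SurjTop.biproduct fun k => surjTop_push_finite i (f k) _ ?_)
  haveI : IsClosedImmersion (pullback.snd i (f k)) := MorphismProperty.pullback_snd _ _ inferInstance
  exact surjTop_const (pullback.snd i (f k)) (hext (Y k) (f k) (hf k))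

/-- the open piece of an etale scheme -/
abbrev openPiece {S : Scheme.{u}} (V : S.Etale) (O : V.left.Opens) : S.Etale := Scheme.Etale.mk (O.ι ≫ V.hom)

/-- its inclusion -/
abbrev openPieceHom {S : Scheme.{u}} (V : S.Etale) (O : V.left.Opens) : openPiece V O ⟶ V :=
  MorphismProperty.Over.homMk O.ι rfl

theorem surjTop_all (hV : ∀ V : X.Opens, Set.range i ⊆ V → V = ⊤) (hext : ExtProp i) (F : EtCoh.Ab X) :
    SurjTop i F := by
  classical
  intro σ
  let T := free2 F
  let B := (EtCoh.bc i).obj (EtCoh.top X)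
  choose U t q hq hqt using fun p => exists_unit_near i F σ p
  let O : ∀ p, ((EtCoh.bc i).obj (U p)).left.Opens := fun p =>
    ⟨(EtShriek.sectSupp ((EtCoh.pull i).obj F) ((EtCoh.bc i).obj (U p))
      (((EtCoh.pull i).obj F).obj.map ((EtCoh.bc i).map (toTopX (U p))).op σ - unitSec i F (U p) (t p)))ᶜ,
      (EtSect.isClosed_sectSupp _ _).isOpen_compl⟩
  let Q := fun p => openPiece ((EtCoh.bc i).obj (U p)) (O p)
  let j := fun p => openPieceHom ((EtCoh.bc i).obj (U p)) (O p)
  have hQ : ∀ p, ((EtCoh.pull i).obj F).obj.map (j p).op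
        (((EtCoh.pull i).obj F).obj.map ((EtCoh.bc i).map (toTopX (U p))).op σ) =
      ((EtCoh.pull i).obj F).obj.map (j p).op (unitSec i F (U p) (t p)) := fun p => by
    rw [← sub_eq_zero, ← map_sub]
    refine (EtSect.map_eq_zero_iff _ _ _).mpr ?_
    rintro _ ⟨w, rfl⟩
    exact (Scheme.Opens.range_ι (O p)).le ⟨w, rfl⟩
  -- the image of the section in the free sheaf
  obtain ⟨σT, hσT⟩ := EtColimH.exists_amalg ((EtCoh.pull i).obj T) Q
    (fun p => j p ≫ (EtCoh.bc i).map (toTopX (U p))) (fun p => by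
      obtain ⟨w, hw⟩ : q p ∈ Set.range (O p).ι := (Scheme.Opens.range_ι (O p)).ge (hqt p)
      refine ⟨p, w, ?_⟩
      change ((O p).ι ≫ ((EtCoh.bc i).map (toTopX (U p))).left) w = p
      rw [Scheme.Hom.comp_apply]
      exact (congrArg _ hw).trans (hq p))
    (fun p => ((EtCoh.pull i).obj T).obj.map (j p).op (unitSec i T (U p) (basisSec F (U p) (t p))))
    fun p p' W a b hab => by
      obtain ⟨P, qa, qb, χ, hχa, hχb⟩ := exists_bc_product i (a ≫ j p) (b ≫ j p')
      have ha : ∀ (G : EtCoh.Ab X) (s : EtCoh.sect G (U p)),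
          ((EtCoh.pull i).obj G).obj.map a.op (((EtCoh.pull i).obj G).obj.map (j p).op (unitSec i G (U p) s)) =
            ((EtCoh.pull i).obj G).obj.map χ.op (unitSec i G P (G.obj.map qa.op s)) := fun G s => by
        rw [← unitSec_map, ← ConcreteCategory.comp_apply, ← Functor.map_comp, ← op_comp,
          ← ConcreteCategory.comp_apply, ← Functor.map_comp, ← op_comp, hχa]
      have hb : ∀ (G : EtCoh.Ab X) (s : EtCoh.sect G (U p')),
          ((EtCoh.pull i).obj G).obj.map b.op (((EtCoh.pull i).obj G).obj.map (j p').op (unitSec i G (U p') s)) =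
            ((EtCoh.pull i).obj G).obj.map χ.op (unitSec i G P (G.obj.map qb.op s)) := fun G s => by
        rw [← unitSec_map, ← ConcreteCategory.comp_apply, ← Functor.map_comp, ← op_comp,
          ← ConcreteCategory.comp_apply, ← Functor.map_comp, ← op_comp, hχb]
      have hF := (congrArg (((EtCoh.pull i).obj F).obj.map a.op) (hQ p)).symm.trans (Eq.trans
        (?_ : _ = ((EtCoh.pull i).obj F).obj.map b.op (((EtCoh.pull i).obj F).obj.map (j p').op
          (((EtCoh.pull i).obj F).obj.map ((EtCoh.bc i).map (toTopX (U p'))).op σ)))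
        (congrArg (((EtCoh.pull i).obj F).obj.map b.op) (hQ p')))
      · rw [ha, hb] at hF
        rw [ha, hb, basisSec_map, basisSec_map]
        refine (unitSec_res_eq_iff i T _ _ χ).mpr fun w => notMem_basisSec F ?_
        exact (unitSec_res_eq_iff i F _ _ χ).mp hF w
      · rw [← ConcreteCategory.comp_apply, ← ConcreteCategory.comp_apply, ← Functor.map_comp, ← Functor.map_comp,
          ← op_comp, ← op_comp, ← ConcreteCategory.comp_apply, ← ConcreteCategory.comp_apply, ← Functor.map_comp,
          ← Functor.map_comp, ← op_comp, ← op_comp, Category.assoc, Category.assoc, hab]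
  obtain ⟨τ, hτ⟩ := surjTop_of_isTorsion i hV hext T (isTorsion_free2 F) σT
  -- near `Z` this section is a basis section
  have hnear : ∀ p, pullback.fst (U p).hom i (q p) ∉ EtShriek.sectSupp T (U p)
      (T.obj.map (toTopX (U p)).op τ - basisSec F (U p) (t p)) := fun p h => by
    have h' := (EtPushStalk.mem_sectSupp_unit_iff i T (U p) _ (q p)).mpr h
    obtain ⟨w, hw⟩ : q p ∈ Set.range (O p).ι := (Scheme.Opens.range_ι (O p)).ge (hqt p)
    refine (EtSect.mem_iff _ _ _).mpr ⟨Q p, j p, ⟨w, hw⟩, ?_⟩ h'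
    change ((EtCoh.pull i).obj T).obj.map (j p).op (unitSec i T (U p) _) = 0
    rw [map_sub, map_sub, sub_eq_zero, ← unitSec_map, hτ, ← ConcreteCategory.comp_apply, ← Functor.map_comp,
      ← op_comp]
    exact hσT p
  have hfst : ∀ p, (U p).hom (pullback.fst (U p).hom i (q p)) = pullback.fst (EtCoh.top X).hom i p := fun p => by
    conv_rhs => rw [← hq p]
    exact ((Scheme.Hom.comp_apply _ _ _).symm.trans
      (congrArg (fun m : ((EtCoh.bc i).obj (U p)).left ⟶ X => m (q p))
        (EtCoh.isPullback_bc_map i (toTopX (U p))).w.symm)).trans (Scheme.Hom.comp_apply _ _ _)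
  let L : Set X := {x | ∃ (W : X.Etale) (h : EtCoh.sect F W),
    T.obj.map (toTopX W).op τ = basisSec F W h ∧ x ∈ Set.range W.hom}
  have hLo : IsOpen L := isOpen_iff_forall_mem_open.mpr fun x ⟨W, h, hW, hx⟩ => by
    haveI : Etale W.hom := W.prop
    exact ⟨Set.range W.hom, fun y hy => ⟨W, h, hW, hy⟩, W.hom.isOpenMap.isOpen_range, hx⟩
  have hLi : Set.range i ⊆ L := fun x hx => by
    obtain ⟨p, hp⟩ := exists_top_point i hx
    obtain ⟨W, g, ⟨w, hw⟩, h0⟩ := (EtSect.mem_iff _ _ _).mp (hnear p)
    refine ⟨W, F.obj.map g.op (t p), ?_, w, ?_⟩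
    · rw [map_sub, sub_eq_zero, basisSec_map, ← ConcreteCategory.comp_apply, ← Functor.map_comp, ← op_comp,
        hom_top_eq (g ≫ toTopX (U p)) (toTopX W)] at h0
      exact h0
    · rw [← hp, ← hfst p, ← hw]
      exact (congrArg (fun m : W.left ⟶ X => m w) (Over.w g.hom).symm).trans (Scheme.Hom.comp_apply _ _ _)
  have hL : ∀ x : X, x ∈ L := fun x => (hV ⟨L, hLo⟩ hLi).ge (trivial : x ∈ (⊤ : X.Opens))
  choose W h hWh hWx using hL
  obtain ⟨hg, hhg⟩ := EtColimH.exists_amalg F W (fun x => toTopX (W x)) (fun x => ⟨x, hWx x⟩) h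
    fun x y V a b hab => by
      refine basisSec_injective F V ?_
      rw [← basisSec_map, ← basisSec_map, ← hWh, ← hWh, ← ConcreteCategory.comp_apply, ← Functor.map_comp,
        ← op_comp, ← ConcreteCategory.comp_apply, ← Functor.map_comp, ← op_comp, hab]
  have he : basisSec F (EtCoh.top X) hg = τ := eq_of_notMem T fun x =>
    (EtSect.mem_iff _ _ _).mpr ⟨W x, toTopX (W x), hWx x, by
      rw [map_sub, basisSec_map, hhg, ← hWh, sub_self]⟩
  refine ⟨hg, eq_of_notMem _ fun p => ?_⟩
  rw [← hq p, ← notMem_map_iff, map_sub, unitSec_map]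
  refine notMem_sub_trans _ ?_ (notMem_neg _ (hqt p))
  rw [← map_sub]
  intro hc
  refine notMem_of_basisSec F (U := U p) ?_ ((EtPushStalk.mem_sectSupp_unit_iff i F (U p) _ (q p)).mp hc)
  rw [← basisSec_map, he]
  exact hnear p

end Groth.Agent.EtH0Pair

namespace Groth.Agent.EtH0Pair

/-- restriction is bijective as soon as it is so for Zariski sheaves on finite schemes over the base -/
theorem bijective_unitSec {Z X : Scheme.{u}} (i : Z ⟶ X) [IsClosedImmersion i] [CompactSpace X]
    [QuasiSeparatedSpace X] (h1 : SectBij (X := TopCat.of X) (Set.range i))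
    (h2 : ∀ (Y : Scheme.{u}) (π : Y ⟶ X), IsFinite π → SectBij (X := TopCat.of Y) (Set.range (pullback.snd i π)))
    (F : EtCoh.Ab X) : Function.Bijective (unitSec i F (EtCoh.top X)) := by
  have hV : ∀ V : X.Opens, Set.range i ⊆ V → V = ⊤ := fun V hV =>
    TopologicalSpace.Opens.ext (h1.eq_univ_of_isOpen V.2 hV)
  exact ⟨unitSec_top_injective i F hV, surjTop_all i hV (fun Y π hπ N f => (h2 Y π hπ).exists_extension f) F⟩

end Groth.Agent.EtH0Pair
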