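import Groth.Agent.EtH0Pair.Stalk
import Groth.Agent.EtH0Pair.Finite
import Groth.Agent.EtShLib.BaseChange
import Groth.Agent.EtShSep.Forget
import Groth.Agent.S0164
import Groth.Agent.S0167

/-!
Direct images along proper morphisms commute with base change in degree zero.
-/

set_option autoImplicit false
set_option backward.isDefEq.respectTransparency false
set_option backward.isDefEq.respectTransparency.types false
set_option maxHeartbeats 1000000
set_option linter.style.haveILetI false
set_option linter.unusedSectionVars false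
set_option linter.overlappingInstances false

universe u

open CategoryTheory CategoryTheory.Limits AlgebraicGeometry Opposite IsLocalRing

noncomputable section

namespace Groth.Agent.EtH0Pair

open Groth.Agent.EtShLib Groth.Agent.EtShSep

section TopBij

variable {W B : Scheme.{u}} (m : W ⟶ B)

/-- the tautological point of the pulled back final object -/
abbrev topδ : EtCoh.top W ⟶ (EtCoh.bc m).obj (EtCoh.top B) :=
  mkδ (T := EtCoh.top W) (o := EtCoh.top B) m m ((Category.comp_id _).trans (Category.id_comp _).symm)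

/-- pullback of global sections is bijective -/
def TopBij (G : EtDesc.Sh B) : Prop := Function.Bijective (ru m G (topδ m))

variable {m}

theorem TopBij.of_iso {G G' : EtDesc.Sh B} (e : G ≅ G') (h : TopBij m G) : TopBij m G' := by
  have he : ∀ s, ru m G' (topδ m) (e.hom.hom.app (op (EtCoh.top B)) s) =
      ((EtDesc.pullSh m).map e.hom).hom.app (op (EtCoh.top W)) (ru m G (topδ m) s) := fun s => by
    have h1 := ConcreteCategory.congr_hom
      (congrArg (fun k : G ⟶ (EtDesc.pushSh m).obj ((EtDesc.pullSh m).obj G') => k.hom.app (op (EtCoh.top B)))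
        ((EtDesc.adjSh m).unit.naturality e.hom)) s
    refine (congrArg (((EtDesc.pullSh m).obj G').obj.map (topδ m).op) h1).trans ?_
    exact (NatTrans.naturality_apply ((EtDesc.pullSh m).map e.hom).hom (topδ m).op _).symm
  haveI : IsIso e.hom.hom := inferInstanceAs (IsIso ((sheafToPresheaf _ _).map e.hom))
  haveI : IsIso ((EtDesc.pullSh m).map e.hom).hom :=
    inferInstanceAs (IsIso ((sheafToPresheaf _ _).map ((EtDesc.pullSh m).map e.hom)))
  have hb : Function.Bijective (ru m G' (topδ m) ∘ e.hom.hom.app (op (EtCoh.top B))) := by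
    rw [show (ru m G' (topδ m) ∘ e.hom.hom.app (op (EtCoh.top B)) : _ → _) =
      ((EtDesc.pullSh m).map e.hom).hom.app (op (EtCoh.top W)) ∘ ru m G (topδ m) from funext he]
    exact (ConcreteCategory.bijective_of_isIso _).comp h
  exact (Function.Bijective.of_comp_iff _ (ConcreteCategory.bijective_of_isIso (e.hom.hom.app (op (EtCoh.top B))))).1 hb

theorem topBij_undSh_iff (A : EtCoh.Ab B) :
    TopBij m ((undSh B).obj A) ↔ Function.Bijective (unitSec m A (EtCoh.top B)) := by
  haveI := isIso_pullCmp m A
  haveI : IsIso (pullCmp m A).hom := inferInstanceAs (IsIso ((sheafToPresheaf _ _).map (pullCmp m A)))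
  have e : topδ m = (EtCore.bcTopIso m).inv := (EtCore.bcTopIsTerminal m).hom_ext _ _
  haveI : IsIso (topδ m) := e ▸ inferInstance
  have key : ∀ s, (pullCmp m A).hom.app (op (EtCoh.top W)) (ru m ((undSh B).obj A) (topδ m) s) =
      ((undSh W).obj ((EtCoh.pull m).obj A)).obj.map (topδ m).op (unitSec m A (EtCoh.top B) s) := fun s =>
    (NatTrans.naturality_apply (pullCmp m A).hom (topδ m).op _).trans
      (congrArg (((undSh W).obj ((EtCoh.pull m).obj A)).obj.map (topδ m).op)
        (app_congr (unit_pullCmp m A) (op (EtCoh.top B)) s))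
  have h1 : Function.Bijective ((pullCmp m A).hom.app (op (EtCoh.top W))) := ConcreteCategory.bijective_of_isIso _
  have h2 : Function.Bijective (((undSh W).obj ((EtCoh.pull m).obj A)).obj.map (topδ m).op) :=
    ConcreteCategory.bijective_of_isIso _
  rw [TopBij, ← Function.Bijective.of_comp_iff' h1, ← Function.Bijective.of_comp_iff' h2]
  exact Iff.of_eq (congrArg Function.Bijective (funext key))

theorem TopBij.comp_iff {S : Scheme.{u}} {b : B ⟶ S} {k : W ⟶ S} (hk : m ≫ b = k) {G : EtDesc.Sh S}
    (hb : TopBij b G) : TopBij k G ↔ TopBij m ((EtDesc.pullSh b).obj G) := by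
  obtain ⟨θ, hθi, hθ⟩ := exists_nested m b k hk G
  haveI : IsIso θ.hom := inferInstanceAs (IsIso ((sheafToPresheaf _ _).map θ))
  have h1 : Function.Bijective (θ.hom.app (op (EtCoh.top W))) := ConcreteCategory.bijective_of_isIso _
  have key : ∀ s, θ.hom.app (op (EtCoh.top W))
      (ru m ((EtDesc.pullSh b).obj G) (topδ m) (ru b G (topδ b) s)) = ru k G (topδ k) s := fun s => by
    rw [show ru b G (topδ b) s = ((EtDesc.pullSh b).obj G).obj.map (topδ b).op (unitSect b G (EtCoh.top S) s) from rfl,
      ru_res]
    refine hθ _ (EtCoh.top S) _ (topδ k) ?_ s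
    refine Eq.trans ?_ (mkδ_fst _ _ _).symm
    refine (Category.assoc _ _ _).trans ?_
    refine (congrArg ((topδ m).left ≫ ·) ((Category.assoc _ _ _).symm.trans
      ((congrArg (· ≫ pullback.fst (EtCoh.top S).hom b) (bc_map_fst m (topδ b))).trans (Category.assoc _ _ _)))).trans ?_
    rw [← Category.assoc, mkδ_fst]
    exact (congrArg (m ≫ ·) (mkδ_fst _ _ _)).trans hk
  unfold TopBij at hb ⊢
  rw [show ru k G (topδ k) = (θ.hom.app (op (EtCoh.top W)) ∘ ru m ((EtDesc.pullSh b).obj G) (topδ m)) ∘
    ru b G (topδ b) from (funext key).symm, Function.Bijective.of_comp_iff _ hb,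
    Function.Bijective.of_comp_iff' h1]

theorem TopBij.of_comp {S : Scheme.{u}} {b : B ⟶ S} {k : W ⟶ S} (hk : m ≫ b = k) {G : EtDesc.Sh S}
    (hm : TopBij m ((EtDesc.pullSh b).obj G)) (h : TopBij k G) : TopBij b G := by
  obtain ⟨θ, hθi, hθ⟩ := exists_nested m b k hk G
  haveI : IsIso θ.hom := inferInstanceAs (IsIso ((sheafToPresheaf _ _).map θ))
  have h1 : Function.Bijective (θ.hom.app (op (EtCoh.top W))) := ConcreteCategory.bijective_of_isIso _
  have key : ∀ s, θ.hom.app (op (EtCoh.top W))
      (ru m ((EtDesc.pullSh b).obj G) (topδ m) (ru b G (topδ b) s)) = ru k G (topδ k) s := fun s => by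
    rw [show ru b G (topδ b) s = ((EtDesc.pullSh b).obj G).obj.map (topδ b).op (unitSect b G (EtCoh.top S) s) from rfl,
      ru_res]
    refine hθ _ (EtCoh.top S) _ (topδ k) ?_ s
    refine Eq.trans ?_ (mkδ_fst _ _ _).symm
    refine (Category.assoc _ _ _).trans ?_
    refine (congrArg ((topδ m).left ≫ ·) ((Category.assoc _ _ _).symm.trans
      ((congrArg (· ≫ pullback.fst (EtCoh.top S).hom b) (bc_map_fst m (topδ b))).trans (Category.assoc _ _ _)))).trans ?_
    rw [← Category.assoc, mkδ_fst]
    exact (congrArg (m ≫ ·) (mkδ_fst _ _ _)).trans hk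
  exact (Function.Bijective.of_comp_iff' (h1.comp hm) (ru b G (topδ b))).1
    ((congrArg Function.Bijective (funext key :
      ((θ.hom.app (op (EtCoh.top W))) ∘ ru m ((EtDesc.pullSh b).obj G) (topδ m)) ∘ ru b G (topδ b) = _)).mpr h)

end TopBij

/-- restriction of sections to the closed fibre, for proper schemes over strictly henselian local rings -/
theorem topBij_closedFibre {R : Type u} [CommRing R] [HenselianLocalRing R] {X : Scheme.{u}}
    (p : X ⟶ Spec (CommRingCat.of R)) [IsProper p] (A : EtCoh.Ab X) :
    TopBij (pullback.fst p (Spec.map (CommRingCat.ofHom (Ideal.Quotient.mk (maximalIdeal R))))) ((undSh X).obj A) :=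
  (topBij_undSh_iff A).2 (Groth.Agent.S0167.result R X p A)

/-- pullback of sections between schemes proper over strictly henselian local rings along a cartesian square -/
theorem topBij_of_isPullback {R R' : Type u} [CommRing R] [HenselianLocalRing R] [IsSepClosed (ResidueField R)]
    [CommRing R'] [HenselianLocalRing R'] (φ : R →+* R') [IsLocalHom φ] {X X' : Scheme.{u}}
    (p : X ⟶ Spec (CommRingCat.of R)) [IsProper p] (m : X' ⟶ X) (p' : X' ⟶ Spec (CommRingCat.of R'))
    (h : IsPullback m p' p (Spec.map (CommRingCat.ofHom φ))) (A : EtCoh.Ab X) : TopBij m ((undSh X).obj A) := by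
  haveI : IsProper p' := MorphismProperty.of_isPullback (P := @IsProper) h inferInstance
  let e := Spec.map (CommRingCat.ofHom (Ideal.Quotient.mk (maximalIdeal R)))
  let e' := Spec.map (CommRingCat.ofHom (Ideal.Quotient.mk (maximalIdeal R')))
  let s : Spec (CommRingCat.of (ResidueField R')) ⟶ Spec (CommRingCat.of (ResidueField R)) :=
    Spec.map (CommRingCat.ofHom (ResidueField.map φ))
  have hs : s ≫ e = e' ≫ Spec.map (CommRingCat.ofHom φ) := by
    change Spec.map _ ≫ Spec.map _ = Spec.map _ ≫ Spec.map _
    rw [← Spec.map_comp, ← Spec.map_comp]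
    rfl
  let i := pullback.fst p e
  let i' := pullback.fst p' e'
  let j : pullback p' e' ⟶ pullback p e := pullback.lift (i' ≫ m) (pullback.snd p' e' ≫ s) (by
    rw [Category.assoc, h.w, ← Category.assoc, pullback.condition, Category.assoc, Category.assoc]
    exact congrArg (pullback.snd p' e' ≫ ·) hs.symm)
  have hji : j ≫ i = i' ≫ m := pullback.lift_fst _ _ _
  have hj : IsPullback j (pullback.snd p' e') (pullback.snd p e) s := by
    refine IsPullback.of_right ?_ (pullback.lift_snd _ _ _) (IsPullback.of_hasPullback p e)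
    rw [hji, hs]
    exact (IsPullback.of_hasPullback p' e').paste_horiz h
  haveI : Flat s := by
    rw [HasRingHomProperty.Spec_iff (P := @Flat)]
    letI := (ResidueField.map φ).toAlgebra
    haveI : Module.Free (ResidueField R) (ResidueField R') := Module.Free.of_divisionRing _ _
    exact RingHom.flat_algebraMap_iff.mpr Module.Flat.of_free
  haveI : Surjective s := ⟨fun y => ⟨closedPoint (ResidueField R'), Subsingleton.elim _ _⟩⟩
  haveI : Flat j := MorphismProperty.of_isPullback (P := @Flat) hj.flip inferInstance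
  haveI : QuasiCompact j := MorphismProperty.of_isPullback (P := @QuasiCompact) hj.flip inferInstance
  haveI : Surjective j := MorphismProperty.of_isPullback (P := @Surjective) hj.flip inferInstance
  have hjb : ∀ G : EtDesc.Sh (pullback p e), TopBij j G := fun G => by
    refine bijective_ru_top j G (isIso_unit j (fun S' t => isQuotientMap_snd_of_flat j S' t) (fun Ω _ _ t => ?_) G)
    obtain ⟨ψ, hψ⟩ := Spec.map_surjective (t ≫ pullback.snd p e)
    letI : Algebra (ResidueField R) Ω := ψ.hom.toAlgebra
    haveI : ConnectedSpace ↥(Spec (CommRingCat.of (ResidueField R'))) :=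
      Groth.Agent.S0164.connected_spec_local (ResidueField R')
    haveI := Groth.Agent.S0164.connected_pullback s Ω
    have hP := (IsPullback.of_hasPullback j t).paste_horiz hj.flip
    rw [← hψ] at hP
    exact hP.isoPullback.hom.homeomorph.connectedSpace_iff.mpr
      (inferInstanceAs (ConnectedSpace ↥(pullback s (Spec.map (CommRingCat.ofHom (algebraMap (ResidueField R) Ω))))))
  have hk : TopBij (i' ≫ m) ((undSh X).obj A) :=
    (TopBij.comp_iff hji (topBij_closedFibre p A)).2 (hjb _)
  haveI := isIso_pullCmp m A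
  exact TopBij.of_comp rfl ((topBij_closedFibre p' _).of_iso (asIso (pullCmp m A)).symm) hk

/-- base change for proper direct images in degree zero -/
theorem isIso_baseChange0_proper {X Y X' Y' : Scheme.{u}} (f : X ⟶ Y) [IsProper f] (f' : X' ⟶ Y') (g' : X' ⟶ X)
    (g : Y' ⟶ Y) (h : IsPullback g' f' f g) (F : EtCoh.Ab X) : IsIso (EtCoh.baseChange0 f g f' g' h.w F) := by
  haveI : IsProper f' := MorphismProperty.of_isPullback (P := @IsProper) h inferInstance
  refine isIso_baseChange0_of_sets f g f' g' h.w F ?_
  let T := EtBC.baseChange0Sh f g f' g' h.w ((undSh X).obj F)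
  let P : ∀ (Ω : Type u) [Field Ω] [IsSepClosed Ω], (Spec (CommRingCat.of Ω) ⟶ Y') → Prop := fun Ω _ _ ξ =>
    Function.Bijective ((Scheme.pointSmallEtale ξ).presheafFiber.map T.hom)
  have hP : EtStalk.Covers (X := Y') P := by
    intro y'
    let QY := EtBCQ.mkSH Y (g y')
    let Q' := EtBCQ.mkSH Y' y'
    obtain ⟨φ, hl, hφ⟩ := EtBCQ.exists_strict_hom QY (Q'.spec ≫ g) (by rw [Scheme.Hom.comp_apply, Q'.spec_closed])
    haveI := hl
    refine ⟨_, inferInstance, inferInstance, Hens2.geomPt Y' y' Q'.R, ?_, EtBCQ.geomPt_apply y' Q'.R⟩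
    refine bijective_stalk_of_strict_at f g f' g' h.w QY Q' φ hφ ((undSh X).obj F) ?_
    haveI := isIso_pullCmp (pullback.fst f QY.spec) F
    exact (topBij_of_isPullback φ (pullback.snd f QY.spec) _ _ (isPullback_xMap f g f' g' QY Q' φ hφ h)
      ((EtCoh.pull (pullback.fst f QY.spec)).obj F)).of_iso (asIso (pullCmp (pullback.fst f QY.spec) F)).symm
  have : Sheaf.IsLocallyInjective T := EtStalk.isLocallyInjective_of_covers _ hP fun Ω _ _ ξ hξ => hξ.1
  have : Sheaf.IsLocallySurjective T := EtStalk.isLocallySurjective_of_covers _ hP fun Ω _ _ ξ hξ => hξ.2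
  exact (Sheaf.isLocallyBijective_iff_isIso _).mp ⟨inferInstance, inferInstance⟩

end Groth.Agent.EtH0Pair
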