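import Groth.Agent.EtH0Pair.Proper
import Groth.Agent.ShriekColim.Local
import Mathlib

/-!
Direct images of sheaves of sets along proper morphisms commute with base change, by comparison with the free
abelian sheaf on a sheaf of sets.
-/

set_option autoImplicit false
set_option backward.isDefEq.respectTransparency false
set_option backward.isDefEq.respectTransparency.types false
set_option maxHeartbeats 1000000
set_option linter.style.haveILetI false
set_option linter.unusedSectionVars false

universe u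

open CategoryTheory CategoryTheory.Limits AlgebraicGeometry Opposite IsLocalRing

noncomputable section

namespace Groth.Agent.EtH0Pair

open Groth.Agent.EtShLib Groth.Agent.EtShSep

section Free

variable {X : Scheme.{u}} (G : EtDesc.Sh X)

/-- the free abelian sheaf on a sheaf of sets -/
def freeAb : EtCoh.Ab X :=
  (presheafToSheaf X.smallEtaleTopology AddCommGrpCat.{u + 1}).obj (G.obj ⋙ AddCommGrpCat.free.{u + 1})

/-- the inclusion of the generators -/
def genMap : G ⟶ (undSh X).obj (freeAb G) :=
  ⟨Functor.whiskerLeft G.obj AddCommGrpCat.adj.unit ≫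
    Functor.whiskerRight (toSheafify X.smallEtaleTopology (G.obj ⋙ AddCommGrpCat.free.{u + 1}))
      (forget AddCommGrpCat.{u + 1})⟩

theorem genMap_injective (U : X.Etale) : Function.Injective ((genMap G).hom.app (op U)) := by
  intro a b h
  refine eq_of_eqLoc fun x => ?_
  have hc : Presheaf.equalizerSieve (F := G.obj ⋙ AddCommGrpCat.free.{u + 1}) (X := op U)
      (AddCommGrpCat.adj.unit.app _ a) (AddCommGrpCat.adj.unit.app _ b) ∈ X.smallEtaleTopology U :=
    Presheaf.equalizerSieve_mem X.smallEtaleTopology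
      (toSheafify X.smallEtaleTopology (G.obj ⋙ AddCommGrpCat.free.{u + 1})) _ _ h
  obtain ⟨W, g, hg, hx⟩ := Groth.Agent.ShriekColim.exists_of_mem hc x
  refine ⟨W, g, hx, FreeAbelianGroup.of_injective ?_⟩
  exact hg

end Free

variable {X : Scheme.{u}}

/-- opens containing the closed fibre of a proper scheme over a local ring are everything -/
theorem eq_top_of_closedFibre {R : Type u} [CommRing R] [IsLocalRing R] (p : X ⟶ Spec (CommRingCat.of R)) [IsProper p]
    (U : X.Opens) (hU : Set.range (pullback.fst p (Spec.map (CommRingCat.ofHom (Ideal.Quotient.mk (maximalIdeal R))))) ⊆ U) :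
    U = ⊤ := by
  ext x
  simp only [TopologicalSpace.Opens.coe_top, Set.mem_univ, iff_true]
  by_contra hx
  have hC : IsClosed (p '' (U : Set X)ᶜ) := p.isClosedMap _ U.isOpen.isClosed_compl
  have hm : closedPoint R ∈ p '' (U : Set X)ᶜ :=
    (IsLocalRing.specializes_closedPoint (p x)).mem_closed hC ⟨x, hx, rfl⟩
  obtain ⟨y, hy, hyp⟩ := hm
  apply hy
  apply hU
  let z : Spec (CommRingCat.of (ResidueField R)) := closedPoint (ResidueField R)
  have hz : Spec.map (CommRingCat.ofHom (Ideal.Quotient.mk (maximalIdeal R))) z = closedPoint R :=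
    IsLocalRing.comap_closedPoint (IsLocalRing.residue R)
  obtain ⟨w, hw, -⟩ := Scheme.Pullback.exists_preimage_pullback y z (hyp.trans hz.symm)
  exact ⟨w, hw⟩

/-- sections of an inverse image come locally from sections -/
theorem exists_ru_near {Z : Scheme.{u}} (i : Z ⟶ X) (G : EtDesc.Sh X) {T : Z.Etale}
    (t : EtDesc.sect ((EtDesc.pullSh i).obj G) T) (x : T.left) :
    ∃ (T' : Z.Etale) (e : T' ⟶ T) (U : X.Etale) (δ : T' ⟶ (EtCoh.bc i).obj U) (s : EtDesc.sect G U),
      x ∈ Set.range e.left ∧ ((EtDesc.pullSh i).obj G).obj.map e.op t = ru i G δ s := by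
  obtain ⟨Ω, _, _, θ, -, hθ⟩ := EtStalk.covers_all (X := T.left) x
  let ξ : Spec (CommRingCat.of Ω) ⟶ Z := θ ≫ T.hom
  let v₀ : Over.mk ξ ⟶ (Scheme.Etale.forget Z).obj T := Over.homMk θ rfl
  obtain ⟨γ, hγ, hγg⟩ := exists_pullGerm i ξ (ξ ≫ i) rfl G
  obtain ⟨z, hz⟩ := hγ.2 (gm ξ ((EtDesc.pullSh i).obj G) T v₀ t)
  obtain ⟨U, v, s, rfl⟩ := gm_surjective (G := G) (ξ ≫ i) z
  rw [hγg] at hz
  obtain ⟨P, w, a, b, ha, hb⟩ := exists_common ξ v₀ (EtPushStalk.up i ξ v)
  have hz' := hz
  erw [← hb, ← ha, ← gm_map, ← gm_map, gm_eq_iff] at hz'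
  obtain ⟨W, g, ⟨y, hy⟩, hg⟩ := hz'
  refine ⟨W, g ≫ a, U, g ≫ b, s, ⟨y, ?_⟩, ?_⟩
  · change a.left (g.left y) = x
    rw [hy, ← hθ]
    exact congrArg (fun m : Spec (CommRingCat.of Ω) ⟶ T.left => m default) (congrArg (fun m => m.left) ha)
  · exact (map_map _ a g _).symm.trans (hg.symm.trans (map_map _ b g _))

/-- restriction of sections of a sheaf of sets to the closed fibre -/
theorem topBij_closedFibre_sets {R : Type u} [CommRing R] [HenselianLocalRing R]
    (p : X ⟶ Spec (CommRingCat.of R)) [IsProper p] (G : EtDesc.Sh X) :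
    TopBij (pullback.fst p (Spec.map (CommRingCat.ofHom (Ideal.Quotient.mk (maximalIdeal R))))) G := by
  let i := pullback.fst p (Spec.map (CommRingCat.ofHom (Ideal.Quotient.mk (maximalIdeal R))))
  let T₀ := EtCoh.top X
  have hδ : (topδ i).left ≫ pullback.fst T₀.hom i = i := mkδ_fst _ _ _
  constructor
  · intro a b hab
    refine eq_of_eqLoc fun x => ?_
    have h := eq_top_of_closedFibre p ⟨eqLoc G T₀ a b, isOpen_eqLoc a b⟩ (by
      rintro _ ⟨z, rfl⟩
      have hz := (mem_eqLoc_ru i G (topδ i) a b z).mp (by rw [hab, eqLoc_self]; trivial)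
      rw [hδ] at hz
      exact hz)
    exact (SetLike.ext_iff.mp h x).mpr trivial
  · intro t
    let A := freeAb G
    let η := genMap G
    let G' := (undSh X).obj A
    let pη := ((EtDesc.pullSh i).map η).hom
    have hnat : ∀ {T : (pullback p _).Etale} {U : X.Etale} (δ : T ⟶ (EtCoh.bc i).obj U) (s : EtDesc.sect G U),
        pη.app (op T) (ru i G δ s) = ru i G' δ (η.hom.app (op U) s) := fun {T U} δ s => by
      have h1 := ConcreteCategory.congr_hom
        (congrArg (fun k : G ⟶ (EtDesc.pushSh i).obj ((EtDesc.pullSh i).obj G') => k.hom.app (op U))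
          ((EtDesc.adjSh i).unit.naturality η)) s
      refine Eq.trans (NatTrans.naturality_apply pη δ.op _) ?_
      exact congrArg (((EtDesc.pullSh i).obj G').obj.map δ.op) h1.symm
    obtain ⟨σ, hσ⟩ := (topBij_closedFibre p A).2 (pη.app (op (EtCoh.top _)) t)
    have hloc : ∀ z : ↥(pullback p _), ∃ (W : X.Etale) (s : EtDesc.sect G W) (T' : (pullback p _).Etale)
        (e : T' ⟶ EtCoh.top _) (δ : T' ⟶ (EtCoh.bc i).obj W) (w : T'.left),
        G'.obj.map (tT W).op σ = η.hom.app (op W) s ∧ e.left w = z ∧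
          ((EtDesc.pullSh i).obj G).obj.map e.op t = ru i G δ s := fun z => by
      obtain ⟨T', e, U, δ, s, ⟨w, hw⟩, he⟩ := exists_ru_near i G t z
      have h1 : ru i G' δ (G'.obj.map (tT U).op σ) = ru i G' δ (η.hom.app (op U) s) := by
        rw [ru_res, ← hnat, ← he, show δ ≫ (EtCoh.bc i).map (tT U) = e ≫ topδ i from
          (EtCore.bcTopIsTerminal i).hom_ext _ _, ← map_ru]
        refine (congrArg (((EtDesc.pullSh i).obj G').obj.map e.op) hσ).trans ?_
        exact (NatTrans.naturality_apply pη e.op t).symm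
      have h2 : (δ.left ≫ pullback.fst U.hom i) w ∈ eqLoc G' U (G'.obj.map (tT U).op σ) (η.hom.app (op U) s) :=
        (mem_eqLoc_ru i G' δ _ _ w).mp (by rw [h1, eqLoc_self]; trivial)
      obtain ⟨W, g, ⟨y, hy⟩, hg⟩ := h2
      -- restrict to the part of `T'` over `W`
      obtain ⟨Q, a, b, hab, hQ⟩ := exists_fibreProd δ ((EtCoh.bc i).map g)
      obtain ⟨y', hy', hy''⟩ := Scheme.Pullback.exists_preimage_pullback (f := g.left) (g := pullback.fst U.hom i) y
        (δ.left w) (hy.trans (Scheme.Hom.comp_apply _ _ _))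
      let iso := (EtCoh.isPullback_bc_map i g).flip.isoPullback
      obtain ⟨q, hq, -⟩ := hQ w (iso.inv y') (by
        rw [← Scheme.Hom.comp_apply, (EtCoh.isPullback_bc_map i g).flip.isoPullback_inv_snd]
        exact hy''.symm)
      refine ⟨W, G.obj.map g.op s, Q, a ≫ e, b, q, ?_, ?_, ?_⟩
      · rw [← tT_eq (g ≫ tT U), ← map_map, hg]
        exact (NatTrans.naturality_apply η.hom g.op s).symm
      · change e.left (a.left q) = z
        rw [hq, hw]
      · rw [ru_res, ← map_map, he, map_ru, hab]
    have hM : ∀ x : X, ∃ (W : X.Etale) (s : EtDesc.sect G W), x ∈ Set.range W.hom ∧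
        G'.obj.map (tT W).op σ = η.hom.app (op W) s := by
      let M : Set X := {x | ∃ (W : X.Etale) (s : EtDesc.sect G W), x ∈ Set.range W.hom ∧
        G'.obj.map (tT W).op σ = η.hom.app (op W) s}
      have hMo : IsOpen M := by
        refine isOpen_iff_forall_mem_open.mpr fun x hxM => ?_
        obtain ⟨W, s, hx, h⟩ := hxM
        haveI := W.prop
        exact ⟨Set.range W.hom, fun y hy => ⟨W, s, hy, h⟩, W.hom.isOpenMap.isOpen_range, hx⟩
      have h := eq_top_of_closedFibre p ⟨M, hMo⟩ (by
        rintro _ ⟨z, rfl⟩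
        obtain ⟨W, s, T', e, δ, w, h1, h2, -⟩ := hloc z
        refine ⟨W, s, ⟨pullback.fst W.hom i (δ.left w), ?_⟩, h1⟩
        rw [← Scheme.Hom.comp_apply, pullback.condition, Scheme.Hom.comp_apply]
        refine congrArg i ?_
        refine (Scheme.Hom.comp_apply _ _ _).symm.trans ?_
        refine (congrArg (fun m : T'.left ⟶ _ => m w) ((MorphismProperty.Over.w δ).trans
          ((MorphismProperty.Over.w e).symm.trans (Category.comp_id _)))).trans h2)
      exact fun x => (SetLike.ext_iff.mp h x).mpr trivial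
    choose W s hW hs using hM
    obtain ⟨σ', hσ'⟩ := exists_amalg (G := G) W (fun x => tT (W x)) (fun x => ⟨x, hW x⟩) s (by
      intro x x' T a b e
      apply genMap_injective G T
      rw [NatTrans.naturality_apply η.hom a.op, NatTrans.naturality_apply η.hom b.op, ← hs, ← hs]
      exact (map_map G' _ a σ).trans ((congrArg (fun m => G'.obj.map (Quiver.Hom.op m) σ) e).trans (map_map G' _ b σ).symm))
    have hσσ : η.hom.app (op T₀) σ' = σ := eq_of_eqLoc fun x => by
      refine ⟨W x, tT (W x), hW x, ?_⟩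
      rw [hs]
      exact (NatTrans.naturality_apply η.hom (tT (W x)).op σ').symm.trans (congrArg (η.hom.app (op (W x))) (hσ' x))
    refine ⟨σ', eq_of_eqLoc fun z => ?_⟩
    obtain ⟨W₁, s₁, T', e, δ, w, h1, h2, h3⟩ := hloc z
    refine ⟨T', e, ⟨w, h2⟩, ?_⟩
    have hs₁ : G.obj.map (tT W₁).op σ' = s₁ := genMap_injective G W₁ (by
      rw [← h1]
      exact (NatTrans.naturality_apply η.hom (tT W₁).op σ').trans (congrArg (G'.obj.map (tT W₁).op) hσσ))
    rw [h3, map_ru, show e ≫ topδ i = δ ≫ (EtCoh.bc i).map (tT W₁) from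
      (EtCore.bcTopIsTerminal i).hom_ext _ _, ← ru_res, hs₁]

/-- pullback of sections between schemes proper over strictly henselian local rings along a cartesian square -/
theorem topBij_of_isPullback_sets {R R' : Type u} [CommRing R] [HenselianLocalRing R] [IsSepClosed (ResidueField R)]
    [CommRing R'] [HenselianLocalRing R'] (φ : R →+* R') [IsLocalHom φ] {X' : Scheme.{u}}
    (p : X ⟶ Spec (CommRingCat.of R)) [IsProper p] (m : X' ⟶ X) (p' : X' ⟶ Spec (CommRingCat.of R'))
    (h : IsPullback m p' p (Spec.map (CommRingCat.ofHom φ))) (G : EtDesc.Sh X) : TopBij m G := by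
  haveI : IsProper p' := MorphismProperty.of_isPullback (P := @IsProper) h inferInstance
  let e := Spec.map (CommRingCat.ofHom (Ideal.Quotient.mk (maximalIdeal R)))
  let e' := Spec.map (CommRingCat.ofHom (Ideal.Quotient.mk (maximalIdeal R')))
  let s : Spec (CommRingCat.of (ResidueField R')) ⟶ Spec (CommRingCat.of (ResidueField R)) :=
    Spec.map (CommRingCat.ofHom (ResidueField.map φ))
  have hs : s ≫ e = e' ≫ Spec.map (CommRingCat.ofHom φ) := by
    change Spec.map _ ≫ Spec.map _ = Spec.map _ ≫ Spec.map _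
    rw [← Spec.map_comp, ← Spec.map_comp]
    rfl
  let i := pullback.fst p e
  let i' := pullback.fst p' e'
  let j : pullback p' e' ⟶ pullback p e := pullback.lift (i' ≫ m) (pullback.snd p' e' ≫ s) (by
    rw [Category.assoc, h.w, ← Category.assoc, pullback.condition, Category.assoc, Category.assoc]
    exact congrArg (pullback.snd p' e' ≫ ·) hs.symm)
  have hji : j ≫ i = i' ≫ m := pullback.lift_fst _ _ _
  have hj : IsPullback j (pullback.snd p' e') (pullback.snd p e) s := by
    refine IsPullback.of_right ?_ (pullback.lift_snd _ _ _) (IsPullback.of_hasPullback p e)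
    rw [hji, hs]
    exact (IsPullback.of_hasPullback p' e').paste_horiz h
  haveI : Flat s := by
    rw [HasRingHomProperty.Spec_iff (P := @Flat)]
    letI := (ResidueField.map φ).toAlgebra
    haveI : Module.Free (ResidueField R) (ResidueField R') := Module.Free.of_divisionRing _ _
    exact RingHom.flat_algebraMap_iff.mpr Module.Flat.of_free
  haveI : Surjective s := ⟨fun y => ⟨closedPoint (ResidueField R'), Subsingleton.elim _ _⟩⟩
  haveI : Flat j := MorphismProperty.of_isPullback (P := @Flat) hj.flip inferInstance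
  haveI : QuasiCompact j := MorphismProperty.of_isPullback (P := @QuasiCompact) hj.flip inferInstance
  haveI : Surjective j := MorphismProperty.of_isPullback (P := @Surjective) hj.flip inferInstance
  have hjb : ∀ G : EtDesc.Sh (pullback p e), TopBij j G := fun G => by
    refine bijective_ru_top j G (isIso_unit j (fun S' t => isQuotientMap_snd_of_flat j S' t) (fun Ω _ _ t => ?_) G)
    obtain ⟨ψ, hψ⟩ := Spec.map_surjective (t ≫ pullback.snd p e)
    letI : Algebra (ResidueField R) Ω := ψ.hom.toAlgebra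
    haveI : ConnectedSpace ↥(Spec (CommRingCat.of (ResidueField R'))) :=
      Groth.Agent.S0164.connected_spec_local (ResidueField R')
    haveI := Groth.Agent.S0164.connected_pullback s Ω
    have hP := (IsPullback.of_hasPullback j t).paste_horiz hj.flip
    rw [← hψ] at hP
    exact hP.isoPullback.hom.homeomorph.connectedSpace_iff.mpr
      (inferInstanceAs (ConnectedSpace ↥(pullback s (Spec.map (CommRingCat.ofHom (algebraMap (ResidueField R) Ω))))))
  have hk : TopBij (i' ≫ m) G := (TopBij.comp_iff hji (topBij_closedFibre_sets p G)).2 (hjb _)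
  exact TopBij.of_comp rfl (topBij_closedFibre_sets p' _) hk

/-- proper base change for sheaves of sets -/
theorem isIso_baseChange0Sh_proper {X Y X' Y' : Scheme.{u}} (f : X ⟶ Y) [IsProper f] (f' : X' ⟶ Y') (g' : X' ⟶ X)
    (g : Y' ⟶ Y) (h : IsPullback g' f' f g) (F : EtDesc.Sh X) : IsIso (EtBC.baseChange0Sh f g f' g' h.w F) := by
  haveI : IsProper f' := MorphismProperty.of_isPullback (P := @IsProper) h inferInstance
  let T := EtBC.baseChange0Sh f g f' g' h.w F
  let P : ∀ (Ω : Type u) [Field Ω] [IsSepClosed Ω], (Spec (CommRingCat.of Ω) ⟶ Y') → Prop := fun Ω _ _ ξ =>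
    Function.Bijective ((Scheme.pointSmallEtale ξ).presheafFiber.map T.hom)
  have hP : EtStalk.Covers (X := Y') P := by
    intro y'
    let QY := EtBCQ.mkSH Y (g y')
    let Q' := EtBCQ.mkSH Y' y'
    obtain ⟨φ, hl, hφ⟩ := EtBCQ.exists_strict_hom QY (Q'.spec ≫ g) (by rw [Scheme.Hom.comp_apply, Q'.spec_closed])
    haveI := hl
    refine ⟨_, inferInstance, inferInstance, Hens2.geomPt Y' y' Q'.R, ?_, EtBCQ.geomPt_apply y' Q'.R⟩
    refine bijective_stalk_of_strict_at f g f' g' h.w QY Q' φ hφ F ?_
    exact topBij_of_isPullback_sets φ (pullback.snd f QY.spec) _ _ (isPullback_xMap f g f' g' QY Q' φ hφ h) _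
  have : Sheaf.IsLocallyInjective T := EtStalk.isLocallyInjective_of_covers _ hP fun Ω _ _ ξ hξ => hξ.1
  have : Sheaf.IsLocallySurjective T := EtStalk.isLocallySurjective_of_covers _ hP fun Ω _ _ ξ hξ => hξ.2
  exact (Sheaf.isLocallyBijective_iff_isIso _).mp ⟨inferInstance, inferInstance⟩

end Groth.Agent.EtH0Pair
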