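import Groth.Agent.EtH0Pair.Basic

/-!
Restriction of global sections of a constant sheaf to a closed subscheme.
-/

set_option autoImplicit false
set_option backward.isDefEq.respectTransparency false
set_option linter.style.haveILetI false
set_option maxHeartbeats 1000000

universe u

open CategoryTheory CategoryTheory.Limits AlgebraicGeometry Opposite

noncomputable section

namespace Groth.Agent.EtH0Pair

variable {Z X : Scheme.{u}}

section Supp

variable (F : EtCoh.Ab X)

theorem notMem_map_iff {U V : X.Etale} (a : V ⟶ U) (s : EtCoh.sect F U) (v : V.left) :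
    v ∉ EtShriek.sectSupp F V (F.obj.map a.op s) ↔ a.left v ∉ EtShriek.sectSupp F U s := by
  rw [EtSect.mem_iff, EtSect.mem_iff]
  constructor
  · rintro ⟨W, g, ⟨w, hw⟩, h0⟩
    refine ⟨W, g ≫ a, ⟨w, (Scheme.Hom.comp_apply _ _ _).trans (congrArg _ hw)⟩, ?_⟩
    rw [op_comp, Functor.map_comp, ConcreteCategory.comp_apply, h0]
  · rintro ⟨W, g, ⟨w, hw⟩, h0⟩
    obtain ⟨P, b, c, hbc, hP⟩ := EtSect.exists_pullback a g
    obtain ⟨p, hp⟩ := hP v w hw.symm
    refine ⟨P, b, ⟨p, hp⟩, ?_⟩
    rw [← ConcreteCategory.comp_apply, ← Functor.map_comp, ← op_comp, hbc, op_comp, Functor.map_comp,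
      ConcreteCategory.comp_apply, h0, map_zero]

theorem notMem_add {U : X.Etale} {s t : EtCoh.sect F U} {x : U.left} (hs : x ∉ EtShriek.sectSupp F U s)
    (ht : x ∉ EtShriek.sectSupp F U t) : x ∉ EtShriek.sectSupp F U (s + t) := by
  rw [EtSect.mem_iff] at hs
  obtain ⟨W, g, ⟨w, hw⟩, h0⟩ := hs
  rw [← hw] at ht ⊢
  rw [← notMem_map_iff] at ht ⊢
  rwa [map_add, h0, zero_add]

theorem notMem_sub_trans {U : X.Etale} {a b c : EtCoh.sect F U} {x : U.left}
    (h1 : x ∉ EtShriek.sectSupp F U (a - b)) (h2 : x ∉ EtShriek.sectSupp F U (b - c)) :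
    x ∉ EtShriek.sectSupp F U (a - c) := by
  have := notMem_add F h1 h2
  rwa [sub_add_sub_cancel] at this

theorem notMem_neg {U : X.Etale} {a b : EtCoh.sect F U} {x : U.left}
    (h1 : x ∉ EtShriek.sectSupp F U (a - b)) : x ∉ EtShriek.sectSupp F U (b - a) := by
  rw [EtSect.mem_iff] at h1 ⊢
  obtain ⟨W, g, hw, h0⟩ := h1
  exact ⟨W, g, hw, by rw [← neg_sub a b, map_neg, h0, neg_zero]⟩

theorem eq_of_notMem {U : X.Etale} {a b : EtCoh.sect F U}
    (h : ∀ x : U.left, x ∉ EtShriek.sectSupp F U (a - b)) : a = b := by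
  rw [← sub_eq_zero]
  have := (EtSect.map_eq_zero_iff F (a - b) (𝟙 U)).mpr fun x _ => h x
  simpa using this

end Supp

section Cst

variable {M : Type} [AddCommGroup M]

/-- the constant presheaf -/
abbrev cpre (X : Scheme.{u}) (M : Type) [AddCommGroup M] : X.Etaleᵒᵖ ⥤ AddCommGrpCat.{u + 1} :=
  (Functor.const X.Etaleᵒᵖ).obj (AddCommGrpCat.of (ULift.{u + 1} M))

/-- the constant sections -/
def cst (m : M) : EtCoh.sect (EtCoh.const X M) (EtCoh.top X) :=
  (toSheafify X.smallEtaleTopology ((Functor.const X.Etaleᵒᵖ).obj (AddCommGrpCat.of (ULift.{u + 1} M)))).app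
    (op (EtCoh.top X)) (ULift.up.{u + 1} m)

theorem cst_map {W : X.Etale} (m : M) :
    (EtCoh.const X M).obj.map (toTopX W).op (cst m) =
      (toSheafify X.smallEtaleTopology ((Functor.const X.Etaleᵒᵖ).obj (AddCommGrpCat.of (ULift.{u + 1} M)))).app
        (op W) (ULift.up.{u + 1} m) :=
  (NatTrans.naturality_apply (toSheafify X.smallEtaleTopology (cpre X M)) (toTopX W).op (ULift.up.{u + 1} m)).symm

theorem cst_sub (m m' : M) : (cst m : EtCoh.sect (EtCoh.const X M) (EtCoh.top X)) - cst m' = cst (m - m') :=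
  (map_sub ((toSheafify X.smallEtaleTopology (cpre X M)).app (op (EtCoh.top X))).hom
    (ULift.up.{u + 1} m) (ULift.up.{u + 1} m')).symm

theorem eq_zero_of_notMem_cst {d : M} {x : (EtCoh.top X).left}
    (h : x ∉ EtShriek.sectSupp (EtCoh.const X M) (EtCoh.top X) (cst d)) : d = 0 := by
  obtain ⟨W, g, ⟨w, -⟩, h0⟩ := (EtSect.mem_iff _ _ _).mp h
  rw [hom_top_eq g (toTopX W), cst_map] at h0
  have hS := Presheaf.equalizerSieve_mem X.smallEtaleTopology
    (toSheafify X.smallEtaleTopology ((Functor.const X.Etaleᵒᵖ).obj (AddCommGrpCat.of (ULift.{u + 1} M))))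
    (X := op W) (ULift.up.{u + 1} d) (ULift.up.{u + 1} 0) (h0.trans (map_zero _).symm)
  obtain ⟨W', f, hf, -⟩ := EtColimH.exists_of_mem hS w
  exact congrArg ULift.down hf

theorem exists_cst_near {U : X.Etale} (t : EtCoh.sect (EtCoh.const X M) U) (x : U.left) :
    ∃ m : M, x ∉ EtShriek.sectSupp (EtCoh.const X M) U
      (t - (EtCoh.const X M).obj.map (toTopX U).op (cst m)) := by
  obtain ⟨W, g, ⟨a, ha⟩, ⟨w, hw⟩⟩ := EtColimH.exists_of_mem (Presheaf.imageSieve_mem X.smallEtaleTopology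
    (toSheafify X.smallEtaleTopology ((Functor.const X.Etaleᵒᵖ).obj (AddCommGrpCat.of (ULift.{u + 1} M)))) (U := op U) t) x
  refine ⟨a.down, (EtSect.mem_iff _ _ _).mpr ⟨W, g, ⟨w, hw⟩, ?_⟩⟩
  rw [map_sub, sub_eq_zero, ← ConcreteCategory.comp_apply, ← Functor.map_comp, ← op_comp,
    hom_top_eq (g ≫ toTopX U) (toTopX W), cst_map]
  exact ha.symm

variable (i : Z ⟶ X) [IsClosedImmersion i]

/-- the open subscheme as an etale scheme -/
abbrev openObj (O : X.Opens) : X.Etale := Scheme.Etale.mk O.ι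

theorem surjTop_const (hext : ∀ (N : Type u) (f : LocallyConstant (Set.range i) N),
      ∃ g : LocallyConstant X N, ∀ z : Set.range i, g z.1 = f z) :
    SurjTop i (EtCoh.const X M) := by
  classical
  intro σ
  let C := EtCoh.const X M
  let B := (EtCoh.bc i).obj (EtCoh.top X)
  let fst : B.left ⟶ X := pullback.fst (EtCoh.top X).hom i
  let R := fun (p : B.left) (m : M) =>
    p ∉ EtShriek.sectSupp ((EtCoh.pull i).obj C) B (σ - unitSec i C (EtCoh.top X) (cst m))
  have hex : ∀ p, ∃ m, R p m := fun p => by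
    obtain ⟨U, t, q, hq, ht⟩ := exists_unit_near i C σ p
    obtain ⟨m, hm⟩ := exists_cst_near t (pullback.fst U.hom i q)
    refine ⟨m, ?_⟩
    have h2 : q ∉ EtShriek.sectSupp ((EtCoh.pull i).obj C) ((EtCoh.bc i).obj U)
        (unitSec i C U t - unitSec i C U (C.obj.map (toTopX U).op (cst m))) := by
      rw [← map_sub]
      exact fun h => hm ((EtPushStalk.mem_sectSupp_unit_iff i C U _ q).mp h)
    have h3 := notMem_sub_trans _ ht h2
    rw [← unitSec_map, ← map_sub, notMem_map_iff, hq] at h3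
    exact h3
  choose f hf using hex
  have huniq : ∀ p m, R p m → m = f p := fun p m hm => by
    rw [← sub_eq_zero]
    refine eq_zero_of_notMem_cst (X := X) (x := fst p) ?_
    have h := notMem_sub_trans _ (notMem_neg _ hm) (hf p)
    rw [← map_sub, cst_sub] at h
    exact fun hc => h ((EtPushStalk.mem_sectSupp_unit_iff i C (EtCoh.top X) _ p).mpr hc)
  have hlc : IsLocallyConstant f := IsLocallyConstant.iff_isOpen_fiber.mpr fun m => by
    have e : f ⁻¹' {m} =
        (EtShriek.sectSupp ((EtCoh.pull i).obj C) B (σ - unitSec i C (EtCoh.top X) (cst m)))ᶜ := by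
      ext p
      exact ⟨fun h => h ▸ hf p, fun h => (huniq p m h).symm⟩
    rw [e]
    exact (EtSect.isClosed_sectSupp _ _).isOpen_compl
  haveI : IsClosedImmersion fst := MorphismProperty.pullback_fst _ _ inferInstance
  have hr : Set.range i = Set.range fst := Set.Subset.antisymm (fun x hx => exists_top_point i hx)
    (by rintro _ ⟨p, rfl⟩; exact fst_top_mem i p)
  let e : Set.range i ≃ₜ B.left := (Homeomorph.setCongr hr).trans fst.isClosedEmbedding.isEmbedding.toHomeomorph.symm
  have he : ∀ z, fst (e z) = z.1 := fun z => congrArg Subtype.val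
    (fst.isClosedEmbedding.isEmbedding.toHomeomorph.apply_symm_apply (Homeomorph.setCongr hr z))
  obtain ⟨g, hg⟩ := hext (ULift.{u} M)
    ⟨fun z => ULift.up (f (e z)), (hlc.comp_continuous e.continuous).comp ULift.up⟩
  let O : M → X.Opens := fun m => ⟨g ⁻¹' {ULift.up m}, g.isLocallyConstant.isOpen_fiber _⟩
  obtain ⟨t, ht⟩ := EtColimH.exists_amalg C (fun m => openObj (O m)) (fun m => toTopX _) (fun x =>
    ⟨(g x).down, ⟨x, (show g x = ULift.up (g x).down from rfl)⟩, rfl⟩)
    (fun m => C.obj.map (toTopX (openObj (O m))).op (cst m)) fun m m' T a b hab => by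
    rw [← ConcreteCategory.comp_apply, ← Functor.map_comp, ← op_comp, ← ConcreteCategory.comp_apply,
      ← Functor.map_comp, ← op_comp]
    rcases isEmpty_or_nonempty T.left with hT | ⟨⟨w⟩⟩
    · exact eq_of_notMem C fun x => isEmptyElim x
    · have hw : (O m).ι (a.left w) = (O m').ι (b.left w) :=
        ((Scheme.Hom.comp_apply _ _ _).symm.trans (congrArg (fun h : T ⟶ EtCoh.top X => h.left w) hab)).trans
          (Scheme.Hom.comp_apply _ _ _)
      have h1 : g ((O m).ι (a.left w)) = ULift.up m := (Scheme.Opens.range_ι (O m)).le ⟨_, rfl⟩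
      have h2 : g ((O m').ι (b.left w)) = ULift.up m' := (Scheme.Opens.range_ι (O m')).le ⟨_, rfl⟩
      have hmm : m = m' := congrArg ULift.down (h1.symm.trans ((congrArg g hw).trans h2))
      subst hmm
      rw [hom_top_eq (a ≫ toTopX (openObj (O m))) (b ≫ toTopX (openObj (O m)))]
  refine ⟨t, eq_of_notMem _ fun p => notMem_sub_trans _ ?_ (notMem_neg _ (hf p))⟩
  rw [← map_sub]
  refine fun h => ?_
  have hp := (EtPushStalk.mem_sectSupp_unit_iff i C (EtCoh.top X) _ p).mp h
  have hz : g (fst p) = ULift.up (f p) := by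
    have h1 := hg ⟨fst p, hr.ge ⟨p, rfl⟩⟩
    have h2 : e ⟨fst p, hr.ge ⟨p, rfl⟩⟩ = p := fst.isClosedEmbedding.injective (he _)
    rw [h1]
    exact congrArg (fun q => ULift.up (f q)) h2
  refine (EtSect.mem_iff C _ _).mpr ⟨openObj (O (f p)), toTopX _, ⟨⟨fst p, hz⟩, rfl⟩, ?_⟩ hp
  rw [map_sub, sub_eq_zero]
  exact ht (f p)

end Cst

end Groth.Agent.EtH0Pair
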