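import Groth.Agent.EtShLib.Crit

/-!
Stalkwise base change criterion for a single sheaf of sets on strict localisations.
-/

set_option autoImplicit false
set_option backward.isDefEq.respectTransparency false
set_option backward.isDefEq.respectTransparency.types false
set_option maxHeartbeats 1000000
set_option linter.style.haveILetI false
set_option linter.unusedSectionVars false
set_option linter.overlappingInstances false

universe u

open CategoryTheory CategoryTheory.Limits AlgebraicGeometry Opposite IsLocalRing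

noncomputable section

namespace Groth.Agent.EtH0Pair

open Groth.Agent.EtShLib

open Groth.Agent.EtStrictLoc

variable {X Y X' Y' : Scheme.{u}} (f : X ⟶ Y) (g : Y' ⟶ Y) (f' : X' ⟶ Y') (g' : X' ⟶ X)
  (w : g' ≫ f = f' ≫ g) {y' : Y'} (QY : EtBCQ.SH Y (g y')) (Q' : EtBCQ.SH Y' y') (φ : QY.R →+* Q'.R)
  (hφ : Spec.map (CommRingCat.ofHom φ) ≫ QY.spec = Q'.spec ≫ g)

variable [IsLocalHom φ] [QuasiCompact f] [QuasiSeparated f] [QuasiCompact f'] [QuasiSeparated f']

include w hφ in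
/-- bijectivity on a stalk from bijectivity of pullback on the strict localisations -/
theorem bijective_stalk_of_strict_at (F : EtDesc.Sh X)
    (H : Function.Bijective
      (ru (xMap f g f' g' w QY Q' φ hφ) ((EtDesc.pullSh (pullback.fst f QY.spec)).obj F)
        (mkδ (T := EtCoh.top (xR f' y' Q'.R)) (o := EtCoh.top (xR f (g y') QY.R)) (xMap f g f' g' w QY Q' φ hφ)
          (xMap f g f' g' w QY Q' φ hφ) ((Category.comp_id _).trans (Category.id_comp _).symm)))) :
    Function.Bijective ((Scheme.pointSmallEtale (Hens2.geomPt Y' y' Q'.R)).presheafFiber.map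
      (EtBC.baseChange0Sh f g f' g' w F).hom) := by
  let ξ' := Hens2.geomPt Y' y' Q'.R
  let ξY := Hens2.geomPt Y (g y') QY.R
  let η := ξ' ≫ g
  have hη : Spec.map (CommRingCat.ofHom (resExt g QY Q' φ)) ≫ ξY = η := (geomPt_comp g QY Q' φ hφ).symm
  let P := (EtDesc.pushSh f).obj F
  let G' := (EtDesc.pullSh g').obj F
  let m := xMap f g f' g' w QY Q' φ hφ
  let πY := pullback.fst f QY.spec
  let π' := pullback.fst f' Q'.spec
  let k := π' ≫ g'
  have hm : m ≫ πY = k := pullback.lift_fst _ _ _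
  have hms : m ≫ pullback.snd f QY.spec = pullback.snd f' Q'.spec ≫ Spec.map (CommRingCat.ofHom φ) :=
    pullback.lift_snd _ _ _
  obtain ⟨θ₁, hθ₁i, hθ₁⟩ := exists_nested m πY k hm F
  obtain ⟨θ₂, hθ₂i, hθ₂⟩ := exists_nested π' g' k rfl F
  have hb₁ : Function.Bijective (θ₁.hom.app (op (EtCoh.top (xR f' y' Q'.R)))) := by
    haveI : IsIso θ₁.hom := inferInstanceAs (IsIso ((sheafToPresheaf _ _).map θ₁))
    exact ConcreteCategory.bijective_of_isIso _
  have hb₂ : Function.Bijective (θ₂.hom.app (op (EtCoh.top (xR f' y' Q'.R)))) := by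
    haveI : IsIso θ₂.hom := inferInstanceAs (IsIso ((sheafToPresheaf _ _).map θ₂))
    exact ConcreteCategory.bijective_of_isIso _
  let δm : EtCoh.top (xR f' y' Q'.R) ⟶ (EtCoh.bc m).obj (EtCoh.top (xR f (g y') QY.R)) :=
    mkδ (T := EtCoh.top (xR f' y' Q'.R)) m m ((Category.comp_id _).trans (Category.id_comp _).symm)
  obtain ⟨γ, hγ, hγg⟩ := exists_pullGerm g ξ' η rfl P
  let vu : ∀ (V : Y.Etale), (fib Y (g y') QY.R).obj V → (Over.mk η ⟶ (Scheme.Etale.forget Y).obj V) :=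
    fun V v => EtBCQ.upPt (resExt g QY Q' φ) ξY η hη V v
  let wu : ∀ (V : Y.Etale), (fib Y (g y') QY.R).obj V → (fib Y' y' Q'.R).obj ((EtCoh.bc g).obj V) :=
    upv g QY Q' φ hφ
  have key : ∀ (V : Y.Etale) (v : (fib Y (g y') QY.R).obj V) (s : EtDesc.sect F ((EtCoh.bc f).obj V)),
      θ₂.hom.app (op (EtCoh.top (xR f' y' Q'.R))) (val f' y' Q'.R G' ((EtCoh.bc g).obj V) (wu V v)
        (G'.obj.map (Groth.Agent.EtIntegral.bcSwap f g f' g' w V).op (unitSect g' F ((EtCoh.bc f).obj V) s))) =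
      θ₁.hom.app (op (EtCoh.top (xR f' y' Q'.R)))
        (ru m ((EtDesc.pullSh πY).obj F) δm (val f (g y') QY.R F V v s)) :=
    fun V v s => val_bcSwap f g f' g' w QY Q' φ hφ F hθ₁ hθ₂ V v s
  -- the map on germs
  have bcm : ∀ (V : Y.Etale) (v : (fib Y (g y') QY.R).obj V) (s : EtDesc.sect F ((EtCoh.bc f).obj V)),
      (Scheme.pointSmallEtale ξ').presheafFiber.map (EtBC.baseChange0Sh f g f' g' w F).hom
          (γ (gm η P V (vu V v) s)) =
        gm ξ' ((EtDesc.pushSh f').obj G') ((EtCoh.bc g).obj V) (wu V v)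
          (G'.obj.map (Groth.Agent.EtIntegral.bcSwap f g f' g' w V).op (unitSect g' F ((EtCoh.bc f).obj V) s)) := by
    intro V v s
    rw [hγg]
    refine (GrothendieckTopology.Point.toPresheafFiber_naturality_apply (Scheme.pointSmallEtale ξ')
      (EtBC.baseChange0Sh f g f' g' w F).hom _ _ _).trans ?_
    exact congrArg (gm ξ' ((EtDesc.pushSh f').obj G') ((EtCoh.bc g).obj V) (wu V v)) (baseChange0Sh_unit f g f' g' w F V s)
  constructor
  · intro z₁ z₂ hz
    obtain ⟨a₁, rfl⟩ := hγ.2 z₁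
    obtain ⟨a₂, rfl⟩ := hγ.2 z₂
    obtain ⟨V₁, v₁, s₁, rfl⟩ := gm_surjective (G := P) η a₁
    obtain ⟨V₂, v₂, s₂, rfl⟩ := gm_surjective (G := P) η a₂
    obtain ⟨V, v, a, b, ha, hb⟩ := exists_common η v₁ v₂
    rw [← ha, ← hb, ← gm_map, ← gm_map] at hz ⊢
    obtain ⟨v₀, rfl⟩ := (EtBCQ.upPt_bijective (resExt g QY Q' φ) ξY η hη V).2 v
    have h1 := ((bcm V v₀ _).symm.trans hz).trans (bcm V v₀ _)
    have h2 := congrArg (θ₂.hom.app (op (EtCoh.top (xR f' y' Q'.R)))) (val_of_gm_eq f' y' Q'.R G' _ _ _ h1)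
    rw [key, key] at h2
    have h3 := gm_eq_of_val_eq f (g y') QY.R F v₀ _ _ (H.1 (hb₁.1 h2))
    obtain ⟨W, c, w₀, hw₀, he⟩ := (GrothendieckTopology.Point.toPresheafFiber_eq_iff'
      (P := P.obj) (Scheme.pointSmallEtale ξY) V v₀ _ _).mp h3
    refine congrArg γ ((GrothendieckTopology.Point.toPresheafFiber_eq_iff'
      (P := P.obj) (Scheme.pointSmallEtale η) V (EtBCQ.upPt (resExt g QY Q' φ) ξY η hη V v₀) _ _).mpr
      ⟨W, c, EtBCQ.upPt (resExt g QY Q' φ) ξY η hη W w₀, ?_, he⟩)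
    rw [EtBCQ.upPt_map, hw₀]
  · intro z
    obtain ⟨V', v', σ, rfl⟩ := gm_surjective (G := (EtDesc.pushSh f').obj G') ξ' z
    obtain ⟨t₁, ht₁⟩ := hb₁.2 (θ₂.hom.app (op (EtCoh.top (xR f' y' Q'.R))) (val f' y' Q'.R G' V' v' σ))
    obtain ⟨t, rfl⟩ := H.2 t₁
    obtain ⟨V, v, s, rfl⟩ := exists_val_eq f (g y') QY.R F t
    refine ⟨γ (gm η P V (vu V v) s), ?_⟩
    rw [bcm]
    refine gm_eq_of_val_eq' f' y' Q'.R G' _ _ _ _ (hb₂.1 ?_)
    rw [key]
    exact ht₁

end Groth.Agent.EtH0Pair
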